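import Groth.Agent.Etrest.RDer5

/-!
# An abstract consequence of mate calculus

`P ⊣ P'`, `PY ⊣ PY'`, `Q ⊣ Q'`, `c : H ⋙ PY ≅ P ⋙ Hb`, `P ⋙ R ≅ Q`.  If `x : H M ⟶ H F` and `z : P M ⟶ P F`
agree over the fourth corner, if composition with the mate `H P' P F ⟶ PY' Hb P F` is injective on `Hom(H M, -)`
and if `Hom(Q M, J) = 0`, then for every `b : Q F ⟶ J` the composite of `x` with `H` of the transpose
`F ⟶ Q' J` of `b` is zero.
-/

set_option autoImplicit false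

open CategoryTheory CategoryTheory.Limits

namespace Groth.Agent.Etbc.H182.AbsMate

open Groth.Agent.Etrest.RDer5

variable {DX DY DXb DYb DU : Type*} [Category* DX] [Category* DY] [Category* DXb] [Category* DYb]
  [Category* DU]
  {P : DX ⥤ DXb} {P' : DXb ⥤ DX} (adj : P ⊣ P') {PY : DY ⥤ DYb} {PY' : DYb ⥤ DY} (adj₂ : PY ⊣ PY')
  {H : DX ⥤ DY} {Hb : DXb ⥤ DYb} (c : H ⋙ PY ⟶ P ⋙ Hb)
  {Q : DX ⥤ DU} {Q' : DU ⥤ DX} (adjQ : Q ⊣ Q') {R : DXb ⥤ DU} (cU : P ⋙ R ≅ Q)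

theorem eq_of_compat {M F : DX} (x : H.obj M ⟶ H.obj F) (z : P.obj M ⟶ P.obj F)
    (hxz : PY.map x ≫ c.app F = c.app M ≫ Hb.map z)
    (hinj : Function.Injective (fun y : H.obj M ⟶ H.obj (P'.obj (P.obj F)) =>
      y ≫ (mate adj adj₂ c).app (P.obj F))) :
    x ≫ H.map (adj.unit.app F) = H.map (adj.homEquiv _ _ z) := by
  apply hinj
  dsimp only
  rw [Category.assoc, mate_unit, mate_transpose', ← hxz, Adjunction.homEquiv_unit, PY'.map_comp]
  have := adj₂.unit.naturality x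
  dsimp at this
  rw [reassoc_of% this]

theorem transpose_factor {F : DX} {J : DU} (b : Q.obj F ⟶ J) :
    adj.unit.app F ≫ adjQ.homEquiv _ _ (cU.inv.app (P'.obj (P.obj F)) ≫ R.map (adj.counit.app (P.obj F)) ≫
      cU.hom.app F ≫ b) = adjQ.homEquiv _ _ b := by
  rw [← Adjunction.homEquiv_naturality_left]
  congr 1
  have h1 := cU.inv.naturality (adj.unit.app F)
  dsimp at h1
  rw [reassoc_of% h1, ← R.map_comp_assoc, adj.left_triangle_components, R.map_id, Category.id_comp,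
    Iso.inv_hom_id_app_assoc]

include cU in
theorem comp_transpose_eq [HasZeroMorphisms DX] [HasZeroMorphisms DY] [HasZeroMorphisms DU]
    [H.PreservesZeroMorphisms] {M F : DX} (x : H.obj M ⟶ H.obj F) (z : P.obj M ⟶ P.obj F)
    (hxz : PY.map x ≫ c.app F = c.app M ≫ Hb.map z)
    (hinj : Function.Injective (fun y : H.obj M ⟶ H.obj (P'.obj (P.obj F)) =>
      y ≫ (mate adj adj₂ c).app (P.obj F))) {J : DU} (b : Q.obj F ⟶ J)
    (hJ : ∀ y : Q.obj M ⟶ J, y = 0) : x ≫ H.map (adjQ.homEquiv _ _ b) = 0 := by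
  rw [← transpose_factor adj adjQ cU b, H.map_comp, ← Category.assoc,
    eq_of_compat adj adj₂ c x z hxz hinj, ← H.map_comp]
  have h0 : ∀ y : M ⟶ Q'.obj J, y = 0 := fun y => by
    rw [← (adjQ.homEquiv M J).apply_symm_apply y, hJ ((adjQ.homEquiv M J).symm y),
      ← hJ ((adjQ.homEquiv M J).symm 0), Equiv.apply_symm_apply]
  rw [h0 (adj.homEquiv _ _ z ≫ _), H.map_zero]

end Groth.Agent.Etbc.H182.AbsMate
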