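import Groth.Agent.Etrest.HPost2
import Groth.Prelude.Def_EtAcyc

/-!
# Classes in the range of the pullback map, along monomorphisms of sheaves

`mem_range_of_mono`: if `φ : F ⟶ G` is mono, `Hpull h (coker φ)` is surjective in degree `n` and injective in
degree `n + 1`, and the image of `ξ ∈ H^{n+1}(Y, h⁻¹F)` in `H^{n+1}(Y, h⁻¹G)` comes from `X`, then so does `ξ`.
-/

set_option autoImplicit false
universe u

open CategoryTheory CategoryTheory.Limits AlgebraicGeometry Opposite CategoryTheory.Abelian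

namespace Groth.Agent.Etbc.H182.Chase

open Groth.Agent.Etrest.HPost

variable {X Y : Scheme.{u}}

theorem shortExact_cokernel {F G : EtCoh.Ab X} (φ : F ⟶ G) [Mono φ] :
    (ShortComplex.mk φ (cokernel.π φ) (cokernel.condition φ)).ShortExact :=
  { exact := ShortComplex.exact_cokernel φ }

theorem mem_range_of_shortExact (h : Y ⟶ X) [PreservesFiniteLimits (EtCoh.pull h)]
    {S : ShortComplex (EtCoh.Ab X)} (hS : S.ShortExact) (n : ℕ)
    (h1 : Function.Surjective (EtCore.Hpull h S.X₃ n))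
    (h2 : Function.Injective (EtCore.Hpull h S.X₃ (n + 1)))
    (ξ : EtCoh.H Y ((EtCoh.pull h).obj S.X₁) (n + 1))
    (hξ : post ((EtCoh.pull h).map S.f) (n + 1) ξ ∈ Set.range (EtCore.Hpull h S.X₂ (n + 1))) :
    ξ ∈ Set.range (EtCore.Hpull h S.X₁ (n + 1)) := by
  obtain ⟨η, hη⟩ := hξ
  have hS' := hS.map_of_exact (EtCoh.pull h)
  -- the image of `η` in the quotient dies
  have e1 : post S.g (n + 1) η = 0 := by
    apply h2
    rw [Hpull_post, hη, map_zero, post_comp, ← Functor.map_comp, S.zero, Functor.map_zero, post_apply,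
      Ext.mk₀_zero, Ext.comp_zero]
  obtain ⟨η₁, rfl⟩ := (exact_fg hS (n + 1) η).1 e1
  have e2 : post ((EtCoh.pull h).map S.f) (n + 1) (ξ - EtCore.Hpull h S.X₁ (n + 1) η₁) = 0 := by
    rw [map_sub, ← hη, ← Hpull_post, sub_self]
  obtain ⟨κ, hκ⟩ := (exact_df hS' n _).1 e2
  obtain ⟨κ₁, rfl⟩ := h1 κ
  refine ⟨conn hS n κ₁ + η₁, ?_⟩
  rw [map_add, Hpull_conn]
  have : conn hS' n (EtCore.Hpull h S.X₃ n κ₁) = ξ - EtCore.Hpull h S.X₁ (n + 1) η₁ := hκ
  rw [this]
  exact sub_add_cancel _ _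

theorem mem_range_of_mono (h : Y ⟶ X) [PreservesFiniteLimits (EtCoh.pull h)]
    {F G : EtCoh.Ab X} (φ : F ⟶ G) [Mono φ] (n : ℕ)
    (h1 : Function.Surjective (EtCore.Hpull h (cokernel φ) n))
    (h2 : Function.Injective (EtCore.Hpull h (cokernel φ) (n + 1)))
    (ξ : EtCoh.H Y ((EtCoh.pull h).obj F) (n + 1))
    (hξ : post ((EtCoh.pull h).map φ) (n + 1) ξ ∈ Set.range (EtCore.Hpull h G (n + 1))) :
    ξ ∈ Set.range (EtCore.Hpull h F (n + 1)) :=
  mem_range_of_shortExact h (shortExact_cokernel φ) n h1 h2 ξ hξ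

/-- Being in the range is stable under morphisms of sheaves. -/
theorem mem_range_post (h : Y ⟶ X) [PreservesFiniteLimits (EtCoh.pull h)]
    {F G : EtCoh.Ab X} (φ : F ⟶ G) (n : ℕ) {ξ : EtCoh.H Y ((EtCoh.pull h).obj F) n}
    (hξ : ξ ∈ Set.range (EtCore.Hpull h F n)) :
    post ((EtCoh.pull h).map φ) n ξ ∈ Set.range (EtCore.Hpull h G n) := by
  obtain ⟨η, rfl⟩ := hξ
  exact ⟨post φ n η, Hpull_post h φ n η⟩

end Groth.Agent.Etbc.H182.Chase
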