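import Groth.Agent.Etrest.RDer5

/-!
# The transformation `RDer5.cD c` on derived categories commutes with shifts

* `commShift_of_precomp`: a transformation commutes with shifts if it does after precomposition with an
  essentially surjective functor commuting with shifts.
* `commShift_bcCx`, `commShift_cD`.
* `compat_of_shift`, `exists_unshift`: transport of equations along a shift.
-/

set_option autoImplicit false
universe w w' w'' w''' v v' v'' v''' u u' u'' u'''
open CategoryTheory CategoryTheory.Limits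

noncomputable section
namespace Groth.Agent.Etbc.H182.CommShiftCD

open Groth.Agent.Etrest.RDer4 Groth.Agent.Etrest.RDer5

section precomp

variable {C D E : Type*} [Category* C] [Category* D] [Category* E] [HasShift C ℤ] [HasShift D ℤ]
  [HasShift E ℤ] (W : C ⥤ D) [W.CommShift ℤ] {S T : D ⥤ E} [S.CommShift ℤ] [T.CommShift ℤ]
  (σ : S ⟶ T)

theorem commShift_of_precomp [W.EssSurj] (h : NatTrans.CommShift (Functor.whiskerLeft W σ) ℤ) :
    NatTrans.CommShift σ ℤ where
  shift_comm a := by
    ext X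
    let e : W.obj (W.objPreimage X) ≅ X := W.objObjPreimageIso X
    have key : (S.commShiftIso a).hom.app (W.obj (W.objPreimage X)) ≫
        (σ.app (W.obj (W.objPreimage X)))⟦a⟧' =
        σ.app ((W.obj (W.objPreimage X))⟦a⟧) ≫ (T.commShiftIso a).hom.app (W.obj (W.objPreimage X)) := by
      have h1 := NatTrans.shift_app_comm (Functor.whiskerLeft W σ) a (W.objPreimage X)
      rw [Functor.commShiftIso_comp_hom_app, Functor.commShiftIso_comp_hom_app] at h1
      dsimp only [Functor.whiskerLeft_app] at h1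
      have h2 := σ.naturality ((W.commShiftIso a).hom.app (W.objPreimage X))
      dsimp only [Functor.comp_obj] at h1 h2
      rw [Category.assoc, ← reassoc_of% h2, cancel_epi] at h1
      exact h1
    have n1 := (S.commShiftIso a).hom.naturality e.hom
    have n2 := (T.commShiftIso a).hom.naturality e.hom
    have n3 := σ.naturality (e.hom⟦a⟧')
    have n4 := σ.naturality e.hom
    dsimp only [Functor.comp_map, Functor.comp_obj] at n1 n2 n3
    simp only [NatTrans.comp_app, Functor.whiskerRight_app, Functor.whiskerLeft_app]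
    rw [← cancel_epi (S.map (e.hom⟦a⟧')), reassoc_of% n1, ← Functor.map_comp, n4, Functor.map_comp,
      reassoc_of% key, reassoc_of% n3, n2]

end precomp

section bcCx

variable {A B A₂ B₂ : Type*} [Category* A] [Category* B] [Category* A₂] [Category* B₂]
    [Preadditive A] [Preadditive B] [Preadditive A₂] [Preadditive B₂]
    {G : A ⥤ B} {E' : B ⥤ B₂} {E : A ⥤ A₂} {G₂ : A₂ ⥤ B₂} [G.Additive] [E'.Additive] [E.Additive]
    [G₂.Additive] (bc : G ⋙ E' ⟶ E ⋙ G₂)

instance commShift_bcCx : NatTrans.CommShift (bcCx bc) ℤ where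
  shift_comm a := by
    ext K i
    simp only [NatTrans.comp_app, Functor.whiskerRight_app, Functor.whiskerLeft_app,
      Functor.commShiftIso_comp_hom_app, HomologicalComplex.comp_f]
    dsimp
    simp
    erw [E'.map_id, G₂.map_id, Category.id_comp, Category.id_comp, Category.comp_id, Category.comp_id]

end bcCx

section cD

variable {A : Type u} [Category.{v} A] [Abelian A] [HasDerivedCategory.{w} A]
  {B : Type u'} [Category.{v'} B] [Abelian B] [HasDerivedCategory.{w'} B]
  {A₂ : Type u''} [Category.{v''} A₂] [Abelian A₂] [HasDerivedCategory.{w''} A₂]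
  {B₂ : Type u'''} [Category.{v'''} B₂] [Abelian B₂] [HasDerivedCategory.{w'''} B₂]
  {L : B ⥤ A} [L.Additive] [PreservesFiniteLimits L] [PreservesFiniteColimits L]
  {L₂ : B₂ ⥤ A₂} [L₂.Additive] [PreservesFiniteLimits L₂] [PreservesFiniteColimits L₂]
  {E : A ⥤ A₂} [E.Additive] [PreservesFiniteLimits E] [PreservesFiniteColimits E]
  {E' : B ⥤ B₂} [E'.Additive] [PreservesFiniteLimits E'] [PreservesFiniteColimits E']

/-- The transformation defining `cD c`, with all associators. -/
def tau (c : E' ⋙ L₂ ⟶ L ⋙ E) : DerivedCategory.Q ⋙ (E'.mapDerivedCategory ⋙ L₂.mapDerivedCategory) ⟶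
    DerivedCategory.Q ⋙ (L.mapDerivedCategory ⋙ E.mapDerivedCategory) :=
  (Functor.associator DerivedCategory.Q E'.mapDerivedCategory L₂.mapDerivedCategory).inv ≫
    Functor.whiskerRight E'.mapDerivedCategoryFactors.hom L₂.mapDerivedCategory ≫
    (Functor.associator (E'.mapHomologicalComplex (.up ℤ)) DerivedCategory.Q L₂.mapDerivedCategory).hom ≫
    Functor.whiskerLeft (E'.mapHomologicalComplex (.up ℤ)) L₂.mapDerivedCategoryFactors.hom ≫
    (Functor.associator (E'.mapHomologicalComplex (.up ℤ)) (L₂.mapHomologicalComplex (.up ℤ))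
      DerivedCategory.Q).inv ≫
    Functor.whiskerRight (bcCx c) DerivedCategory.Q ≫
    (Functor.associator (L.mapHomologicalComplex (.up ℤ)) (E.mapHomologicalComplex (.up ℤ))
      DerivedCategory.Q).hom ≫
    Functor.whiskerLeft (L.mapHomologicalComplex (.up ℤ)) E.mapDerivedCategoryFactors.inv ≫
    (Functor.associator (L.mapHomologicalComplex (.up ℤ)) DerivedCategory.Q E.mapDerivedCategory).inv ≫
    Functor.whiskerRight L.mapDerivedCategoryFactors.inv E.mapDerivedCategory ≫
    (Functor.associator DerivedCategory.Q L.mapDerivedCategory E.mapDerivedCategory).hom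

instance commShift_tau (c : E' ⋙ L₂ ⟶ L ⋙ E) : NatTrans.CommShift (tau c) ℤ := by
  unfold tau
  infer_instance

theorem whiskerLeft_cD (c : E' ⋙ L₂ ⟶ L ⋙ E) :
    Functor.whiskerLeft DerivedCategory.Q (cD c) = tau c := by
  ext K
  refine (cD_app c K).trans ?_
  simp [tau]

instance commShift_cD (c : E' ⋙ L₂ ⟶ L ⋙ E) : NatTrans.CommShift (cD c) ℤ := by
  have h : NatTrans.CommShift (Functor.whiskerLeft (DerivedCategory.Q (C := B)) (cD c)) ℤ := by
    rw [whiskerLeft_cD]
    infer_instance
  exact commShift_of_precomp (DerivedCategory.Q (C := B)) (cD c) h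

end cD

section shift

variable {DX DY DXb DYb : Type*} [Category* DX] [Category* DY] [Category* DXb] [Category* DYb]
  [HasShift DX ℤ] [HasShift DY ℤ] [HasShift DXb ℤ] [HasShift DYb ℤ]
  {P : DX ⥤ DXb} {PY : DY ⥤ DYb} {H : DX ⥤ DY} {Hb : DXb ⥤ DYb} [P.CommShift ℤ] [PY.CommShift ℤ]
  [H.CommShift ℤ] [Hb.CommShift ℤ]
  (c : H ⋙ PY ⟶ P ⋙ Hb) [NatTrans.CommShift c ℤ]

theorem compat_of_shift {M Z F : DX} (q : ℤ) (e : M⟦q⟧ ≅ Z) (x : H.obj M ⟶ H.obj F)
    (z : P.obj M ⟶ P.obj F)
    (h : PY.map (H.map e.inv ≫ (H.commShiftIso q).hom.app M ≫ x⟦q⟧') ≫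
        (PY.commShiftIso q).hom.app (H.obj F) ≫ (c.app F)⟦q⟧' =
      c.app Z ≫ Hb.map (P.map e.inv ≫ (P.commShiftIso q).hom.app M ≫ z⟦q⟧') ≫
        (Hb.commShiftIso q).hom.app (P.obj F)) :
    PY.map x ≫ c.app F = c.app M ≫ Hb.map z := by
  apply (shiftFunctor DYb q).map_injective
  have n1 := (PY.commShiftIso q).hom.naturality x
  have n2 := (Hb.commShiftIso q).hom.naturality z
  have n3 := NatTrans.shift_app_comm c q M
  have n4 := c.naturality e.inv
  rw [Functor.commShiftIso_comp_hom_app, Functor.commShiftIso_comp_hom_app] at n3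
  dsimp only [Functor.comp_map, Functor.comp_obj] at n1 n2 n3 n4
  simp only [Functor.map_comp, Category.assoc] at h n3 ⊢
  rw [reassoc_of% n1, ← reassoc_of% n4, n2, cancel_epi] at h
  rw [← cancel_epi ((PY.commShiftIso q).hom.app (H.obj M)),
    ← cancel_epi (PY.map ((H.commShiftIso q).hom.app M)), h, reassoc_of% n3]

/-- Every morphism out of `H Z` into a shift comes from `H M`, `M⟦q⟧ ≅ Z`. -/
theorem exists_unshift {M Z : DX} {F : DY} (q : ℤ) (e : M⟦q⟧ ≅ Z) (y : H.obj Z ⟶ F⟦q⟧) :
    ∃ x : H.obj M ⟶ F, y = H.map e.inv ≫ (H.commShiftIso q).hom.app M ≫ x⟦q⟧' := by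
  obtain ⟨x, hx⟩ := (shiftFunctor DY q).map_surjective
    ((H.commShiftIso q).inv.app M ≫ H.map e.hom ≫ y)
  refine ⟨x, ?_⟩
  rw [hx, Iso.hom_inv_id_app_assoc, ← H.map_comp_assoc, e.inv_hom_id, H.map_id, Category.id_comp]

end shift

end Groth.Agent.Etbc.H182.CommShiftCD
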