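import Groth.Agent.Etbc.H182.SingleTransp
import Groth.Agent.Etbc.H182.CommShiftCD
import Mathlib.Algebra.Homology.DerivedCategory.Ext.Map

/-!
# Ext classes as morphisms of derived categories, and squares of exact functors

* `mor E x : E S₀Z ⟶ (E S₀F)⟦n⟧` for `x ∈ Ext^n(E Z, E F)`;
* `compat`: an equality of Ext classes over the fourth corner of a square of exact functors gives an equality
  of morphisms.
-/

set_option autoImplicit false
universe w w' w'' w''' t t' t'' t''' v v' v'' v''' u u' u'' u'''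
open CategoryTheory CategoryTheory.Limits

noncomputable section
namespace Groth.Agent.Etbc.H182.ClassTransp

open Groth.Agent.Etrest.RDer4 Groth.Agent.Etrest.RDer5 DerivedCategory Abelian SingleTransp

theorem chase3 {DY DYb DXb : Type*} [Category* DY] [Category* DYb] [Category* DXb] [HasShift DY ℤ]
    [HasShift DYb ℤ] [HasShift DXb ℤ] (PY : DY ⥤ DYb) (Hb : DXb ⥤ DYb) [PY.CommShift ℤ] [Hb.CommShift ℤ]
    (n : ℤ) {a0 a1 a2 a3 : DY} (m1 : a0 ≅ a1) (m2 : a3 ≅ a2) (ξ : a1 ⟶ a2⟦n⟧) {b1 b2 : DYb}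
    (k1 : PY.obj a1 ≅ b1) (k2 : PY.obj a2 ≅ b2) {d0 d1 d2 d3 : DXb} (l1 : d0 ≅ d1) (l2 : d3 ≅ d2)
    (ζ : d1 ⟶ d2⟦n⟧) {e1 e2 : DYb} (j1 : Hb.obj d1 ≅ e1) (j2 : Hb.obj d2 ≅ e2)
    (cZ : PY.obj a0 ⟶ Hb.obj d0) (cF : PY.obj a3 ⟶ Hb.obj d3) (κZ : b1 ⟶ e1) (κF : b2 ⟶ e2)
    (hZ : PY.map m1.hom ≫ k1.hom ≫ κZ = cZ ≫ Hb.map l1.hom ≫ j1.hom)
    (hF : PY.map m2.hom ≫ k2.hom ≫ κF = cF ≫ Hb.map l2.hom ≫ j2.hom)
    (H : (k1.inv ≫ (PY.map ξ ≫ (PY.commShiftIso n).hom.app a2) ≫ k2.hom⟦n⟧') ≫ κF⟦n⟧' =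
      κZ ≫ (j1.inv ≫ (Hb.map ζ ≫ (Hb.commShiftIso n).hom.app d2) ≫ j2.hom⟦n⟧')) :
    PY.map (m1.hom ≫ ξ ≫ m2.inv⟦n⟧') ≫ (PY.commShiftIso n).hom.app a3 ≫ cF⟦n⟧' =
      cZ ≫ Hb.map (l1.hom ≫ ζ ≫ l2.inv⟦n⟧') ≫ (Hb.commShiftIso n).hom.app d3 := by
  have hcF : cF = PY.map m2.hom ≫ k2.hom ≫ κF ≫ j2.inv ≫ Hb.map l2.inv := by
    rw [reassoc_of% hF, Iso.hom_inv_id_assoc, ← Hb.map_comp, l2.hom_inv_id, Hb.map_id, Category.comp_id]
  have n1 := (PY.commShiftIso n).hom.naturality m2.hom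
  have n2 := (Hb.commShiftIso n).hom.naturality l2.inv
  dsimp only [Functor.comp_map, Functor.comp_obj] at n1 n2
  have H' : PY.map ξ ≫ (PY.commShiftIso n).hom.app a2 ≫ k2.hom⟦n⟧' ≫ κF⟦n⟧' =
      k1.hom ≫ κZ ≫ j1.inv ≫ Hb.map ζ ≫ (Hb.commShiftIso n).hom.app d2 ≫ j2.hom⟦n⟧' := by
    rw [← cancel_epi k1.inv]
    simpa only [Category.assoc, Iso.inv_hom_id_assoc] using H
  rw [hcF]
  simp only [Functor.map_comp, Category.assoc]
  rw [← reassoc_of% n1]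
  have e1 : PY.map (m2.inv⟦n⟧') ≫ PY.map (m2.hom⟦n⟧') = 𝟙 _ := by
    rw [← PY.map_comp, ← Functor.map_comp, m2.inv_hom_id, CategoryTheory.Functor.map_id, PY.map_id]
  rw [reassoc_of% e1, reassoc_of% H', reassoc_of% hZ, Iso.hom_inv_id_assoc, n2]
  have e2 : j2.hom⟦n⟧' ≫ j2.inv⟦n⟧' = 𝟙 _ := by
    rw [← Functor.map_comp, j2.hom_inv_id, CategoryTheory.Functor.map_id]
  rw [reassoc_of% e2]

section mor

variable {A : Type u} [Category.{v} A] [Abelian A] [HasDerivedCategory.{w} A] [HasExt.{t} A]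
  {B : Type u'} [Category.{v'} B] [Abelian B] [HasDerivedCategory.{w'} B] [HasExt.{t'} B]
  (E : A ⥤ B) [E.Additive] [PreservesFiniteLimits E] [PreservesFiniteColimits E]

/-- The morphism in the derived category attached to an Ext class between objects `E Z`, `E F`. -/
def mor {Z F : A} {n : ℕ} (x : Ext.{t'} (E.obj Z) (E.obj F) n) :
    E.mapDerivedCategory.obj ((singleFunctor A 0).obj Z) ⟶
      (E.mapDerivedCategory.obj ((singleFunctor A 0).obj F))⟦(n : ℤ)⟧ :=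
  (E.mapDerivedCategorySingleFunctor 0).hom.app Z ≫ x.hom ≫
    ((E.mapDerivedCategorySingleFunctor 0).inv.app F)⟦(n : ℤ)⟧'

/-- Composition on the right. -/
theorem mor_comp_map {Z F F' : A} {n : ℕ} (x : Ext.{t'} (E.obj Z) (E.obj F) n) (φ : F ⟶ F') :
    mor E x ≫ (E.mapDerivedCategory.map ((singleFunctor A 0).map φ))⟦(n : ℤ)⟧' =
      mor E (x.comp (Ext.mk₀ (E.map φ)) (add_zero n)) := by
  have h := (E.mapDerivedCategorySingleFunctor 0).inv.naturality φ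
  dsimp only [Functor.comp_map, Functor.comp_obj] at h
  rw [mor, mor, Category.assoc, Category.assoc, ← Functor.map_comp, ← h, Functor.map_comp, Ext.comp_hom,
    Ext.mk₀_hom, ShiftedHom.comp_mk₀, Category.assoc]

theorem mor_eq_zero_iff {Z F : A} {n : ℕ} (x : Ext.{t'} (E.obj Z) (E.obj F) n) : mor E x = 0 ↔ x = 0 := by
  constructor
  · intro h
    have h1 : x.hom ≫ ((E.mapDerivedCategorySingleFunctor 0).inv.app F)⟦(n : ℤ)⟧' = 0 :=
      (cancel_epi ((E.mapDerivedCategorySingleFunctor 0).hom.app Z)).1 (h.trans comp_zero.symm)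
    have h2 : x.hom = 0 :=
      (cancel_mono (((E.mapDerivedCategorySingleFunctor 0).inv.app F)⟦(n : ℤ)⟧')).1 (h1.trans zero_comp.symm)
    refine Ext.ext (h2.trans ?_)
    rw [Ext.zero_hom]
  · rintro rfl
    rw [mor, Ext.zero_hom, zero_comp, comp_zero]

end mor

section compat

variable {A : Type u} [Category.{v} A] [Abelian A] [HasDerivedCategory.{w} A]
  {B : Type u'} [Category.{v'} B] [Abelian B] [HasDerivedCategory.{w'} B]
  {A₂ : Type u''} [Category.{v''} A₂] [Abelian A₂] [HasDerivedCategory.{w''} A₂]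
  {B₂ : Type u'''} [Category.{v'''} B₂] [Abelian B₂] [HasDerivedCategory.{w'''} B₂]
  [HasExt.{t} A] [HasExt.{t'} B] [HasExt.{t''} A₂] [HasExt.{t'''} B₂]
  {L : B ⥤ A} [L.Additive] [PreservesFiniteLimits L] [PreservesFiniteColimits L]
  {L₂ : B₂ ⥤ A₂} [L₂.Additive] [PreservesFiniteLimits L₂] [PreservesFiniteColimits L₂]
  {E : A ⥤ A₂} [E.Additive] [PreservesFiniteLimits E] [PreservesFiniteColimits E]
  {E' : B ⥤ B₂} [E'.Additive] [PreservesFiniteLimits E'] [PreservesFiniteColimits E']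

theorem compat (κ : E' ⋙ L₂ ⟶ L ⋙ E) {Z F : B} {n : ℕ} (x : Ext.{t'''} (E'.obj Z) (E'.obj F) n)
    (z : Ext.{t} (L.obj Z) (L.obj F) n)
    (h : ((x.mapExactFunctor L₂ : Ext.{t''} _ _ n)).comp (Ext.mk₀ (κ.app F)) (add_zero n) =
      (Ext.mk₀ (κ.app Z)).comp (z.mapExactFunctor E : Ext.{t''} _ _ n) (zero_add n)) :
    L₂.mapDerivedCategory.map (mor E' x) ≫ (L₂.mapDerivedCategory.commShiftIso (n : ℤ)).hom.app _ ≫
        ((cD κ).app ((singleFunctor B 0).obj F))⟦(n : ℤ)⟧' =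
      (cD κ).app ((singleFunctor B 0).obj Z) ≫ E.mapDerivedCategory.map (mor L z) ≫
        (E.mapDerivedCategory.commShiftIso (n : ℤ)).hom.app _ := by
  have h' := congrArg Ext.hom h
  rw [Ext.comp_hom, Ext.comp_hom, Ext.mk₀_hom, Ext.mk₀_hom, ShiftedHom.comp_mk₀, ShiftedHom.mk₀_comp,
    Ext.mapExactFunctor_hom, Ext.mapExactFunctor_hom] at h'
  exact chase3 L₂.mapDerivedCategory E.mapDerivedCategory (n : ℤ)
    ((E'.mapDerivedCategorySingleFunctor 0).app Z) ((E'.mapDerivedCategorySingleFunctor 0).app F) x.hom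
    ((L₂.mapDerivedCategorySingleFunctor 0).app (E'.obj Z)) ((L₂.mapDerivedCategorySingleFunctor 0).app (E'.obj F))
    ((L.mapDerivedCategorySingleFunctor 0).app Z) ((L.mapDerivedCategorySingleFunctor 0).app F) z.hom
    ((E.mapDerivedCategorySingleFunctor 0).app (L.obj Z)) ((E.mapDerivedCategorySingleFunctor 0).app (L.obj F))
    _ _ _ _ (cD_single κ Z) (cD_single κ F) h'

end compat

end Groth.Agent.Etbc.H182.ClassTransp
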