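import Groth.Agent.Etbc.H182.EtClass
import Groth.Agent.Etbc.H182.AbsMate
import Groth.Agent.Etbc.H181.HyperExt
import Groth.Agent.Dcoh.MapDer
import Groth.Agent.Etbc.H185.BcMap

/-!
# A cohomology class dies in the direct image of an acyclic sheaf on a covering of the base

`w : g' ≫ f = f' ≫ g` a square, `F` a sheaf on `S`, `ξ ∈ H^n(S', g⁻¹F)` whose image in `H^n(X', -)` comes from
`ζ ∈ H^n(X, f⁻¹F)`; suppose that the derived base change map at `f⁻¹F` is an isomorphism on cohomology in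
degrees `< n` and mono in degree `n`.  Then for `q : U ⟶ X`, `J` on `U` acyclic for `(q ≫ f)_*` with
`H^n(U, J) = 0` and `b : (q ≫ f)⁻¹F ⟶ J` the image of `ξ` in `H^n(S', g⁻¹ (q ≫ f)_* J)` is zero.
-/

set_option autoImplicit false
universe u

open CategoryTheory CategoryTheory.Limits AlgebraicGeometry Opposite CategoryTheory.Abelian

attribute [local instance] HasDerivedCategory.standard

noncomputable section
namespace Groth.Agent.Etbc.H182.Derived

open Groth.Agent.Etrest.HPost Groth.Agent.Etrest.DEtMate Groth.Agent.Etrest.DEtPush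
  Groth.Agent.Etrest.RDer2 Groth.Agent.Etrest.RDer3 Groth.Agent.Etrest.RDer4 Groth.Agent.Etrest.RDer5
  ClassTransp EtClass SingleTransp DerivedCategory

/-- Transport of a property of the components of a transformation along an isomorphism of objects. -/
theorem prop_app_iff {C D : Type*} [Category* C] [Category* D] {F G : C ⥤ D} (τ : F ⟶ G)
    (P : MorphismProperty D) [P.RespectsIso] {K K' : C} (e : K ≅ K') : P (τ.app K) ↔ P (τ.app K') :=
  P.arrow_mk_iso_iff (Arrow.isoMk (F.mapIso e) (G.mapIso e) (by simp))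

variable {X S X' S' U : Scheme.{u}} {f : X ⟶ S} {g : S' ⟶ S} {f' : X' ⟶ S'} {g' : X' ⟶ X}

/-- Morphisms `(q⁻¹ M) ⟶ J[0]` vanish if `M⟦n⟧ ≅ ℤ_S[0]` and `H^n(U, J) = 0`. -/
theorem eq_zero_of_H (k : U ⟶ S) (J : EtCoh.Ab U) (n : ℕ) (hJ : Subsingleton (EtCoh.H U J n))
    {M : DCoh.DEt S} (e : M⟦(n : ℤ)⟧ ≅ (singleFunctor (EtCoh.Ab S) 0).obj (EtCoh.const S ℤ))
    (y : (pullD k).obj M ⟶ (singleFunctor (EtCoh.Ab U) 0).obj J) : y = 0 := by
  apply (shiftFunctor (DCoh.DEt U) (n : ℤ)).map_injective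
  rw [Functor.map_zero]
  let i : (singleFunctor (EtCoh.Ab U) 0).obj (EtCoh.const U ℤ) ≅ ((pullD k).obj M)⟦(n : ℤ)⟧ :=
    (singleFunctor (EtCoh.Ab U) 0).mapIso (EtCore.pullConst k ℤ).symm ≪≫
      ((EtCoh.pull k).mapDerivedCategorySingleFunctor 0).symm.app (EtCoh.const S ℤ) ≪≫
      (pullD k).mapIso e.symm ≪≫ ((pullD k).commShiftIso (n : ℤ)).app M
  rw [← cancel_epi i.hom, comp_zero]
  have h1 : Subsingleton (ShiftedHom ((singleFunctor (EtCoh.Ab U) 0).obj (EtCoh.const U ℤ))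
      ((singleFunctor (EtCoh.Ab U) 0).obj J) (n : ℤ)) := by
    have h2 : Subsingleton (Ext (EtCoh.const U ℤ) J n) := hJ
    exact (Ext.homEquiv (C := EtCoh.Ab U)).symm.subsingleton
  exact Subsingleton.elim (α := ShiftedHom _ _ (n : ℤ)) _ _

/-- The object `M` with `M⟦n⟧ ≅ K`. -/
theorem exists_shift {D : Type*} [Category* D] [HasShift D ℤ] (K : D) (n : ℤ) :
    ∃ M : D, Nonempty (M⟦n⟧ ≅ K) :=
  ⟨K⟦-n⟧, ⟨(shiftFunctorCompIsoId D (-n) n (neg_add_cancel n)).app K⟩⟩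

theorem eq_zero_of_comp_rho {D : Type*} [Category* D] [HasZeroMorphisms D] {D' : Type*} [Category* D']
    (R : D' ⥤ D) {a : D} {b c e : D'} (x : a ⟶ R.obj b) (s : b ⟶ c) (r : c ⟶ e) [IsIso r]
    (h : x ≫ R.map (s ≫ r) = 0) : x ≫ R.map s = 0 := by
  rw [R.map_comp, ← Category.assoc] at h
  exact (cancel_mono (R.map r)).1 (h.trans zero_comp.symm)

theorem post_eq_zero (w : g' ≫ f = f' ≫ g) {F : EtCoh.Ab S} {n : ℕ}
    (ξ : EtCoh.H S' ((EtCoh.pull g).obj F) n) (ζ : EtCoh.H X ((EtCoh.pull f).obj F) n)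
    (h : EtCore.HpullVia f' g (f' ≫ g) rfl F n ξ = EtCore.HpullVia g' f (f' ≫ g) w F n ζ)
    (hbc : ∀ i : ℤ, i < n → IsIso ((homologyFunctor (EtCoh.Ab S') i).map
      ((bcEt w).app (EtBC.single X ((EtCoh.pull f).obj F)))))
    (hbc' : Mono ((homologyFunctor (EtCoh.Ab S') (n : ℤ)).map
      ((bcEt w).app (EtBC.single X ((EtCoh.pull f).obj F)))))
    (q : U ⟶ X) (J : EtCoh.Ab U) (hJ : IsAcyc (EtCoh.push (q ≫ f)) J)
    (hJ' : Subsingleton (EtCoh.H U J n)) (b : (EtCoh.pull (q ≫ f)).obj F ⟶ J) :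
    post ((EtCoh.pull g).map ((EtCoh.pullPushAdj (q ≫ f)).homEquiv _ _ b)) n ξ = 0 := by
  obtain ⟨M, ⟨e⟩⟩ := exists_shift ((singleFunctor (EtCoh.Ab S) 0).obj (EtCoh.const S ℤ)) (n : ℤ)
  obtain ⟨x, hx⟩ := CommShiftCD.exists_unshift (H := pullD g) (n : ℤ) e (mor (EtCoh.pull g) (cls g ξ))
  obtain ⟨z, hz⟩ := CommShiftCD.exists_unshift (H := pullD f) (n : ℤ) e (mor (EtCoh.pull f) (cls f ζ))
  have hxz := CommShiftCD.compat_of_shift (cD (cmp w).hom) (n : ℤ) e x z (by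
    rw [← hx, ← hz]
    exact compat (cmp w).hom (cls g ξ) (cls f ζ) (ext_eq w ξ ζ h))
  have i0 : ((singleFunctor (EtCoh.Ab S) 0).obj (EtCoh.const S ℤ)).IsLE 0 := inferInstance
  have i1 : (M⟦(n : ℤ)⟧).IsLE 0 := TStructure.t.isLE_of_iso e.symm 0
  have i2 : M.IsLE (n : ℤ) := TStructure.t.isLE_of_shift M (n : ℤ) (n : ℤ) 0 (add_zero _)
  have i3 : ((pullD g).obj M).IsLE (n : ℤ) := H181.HyperExt.isLE_mapDerivedCategory _ _ _
  have iF : (pullD f).obj ((singleFunctor (EtCoh.Ab S) 0).obj F) ≅ EtBC.single X ((EtCoh.pull f).obj F) :=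
    ((EtCoh.pull f).mapDerivedCategorySingleFunctor 0).app F
  have hinj : Function.Injective (fun y : (pullD g).obj M ⟶
      (pullD g).obj ((pushD f).obj ((pullD f).obj ((singleFunctor (EtCoh.Ab S) 0).obj F))) =>
      y ≫ (mate (dPullPush f) (dPullPush f') (cmpD w).hom).app
        ((pullD f).obj ((singleFunctor (EtCoh.Ab S) 0).obj F))) := by
    rw [← bcEt_eq_mate]
    refine H181.HyperExt.injective_hom_of_isLE _ (n : ℤ) (n : ℤ) (fun i hi => ?_) ?_ le_rfl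
    · exact (prop_app_iff (bcEt w) ((MorphismProperty.isomorphisms _).inverseImage
        (homologyFunctor (EtCoh.Ab S') i)) iF).2 (hbc i hi)
    · exact (prop_app_iff (bcEt w) ((MorphismProperty.monomorphisms _).inverseImage
        (homologyFunctor (EtCoh.Ab S') (n : ℤ))) iF).2 hbc'
  have key := AbsMate.comp_transpose_eq (dPullPush f) (dPullPush f') (cmpD w).hom (dPullPush (q ≫ f))
    (Dcoh.MapDer.mapDerCompIso (EtCore.pullComp q f).symm) x z hxz hinj
    (((EtCoh.pull (q ≫ f)).mapDerivedCategorySingleFunctor 0).hom.app F ≫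
      (singleFunctor (EtCoh.Ab U) 0).map b) (fun y => eq_zero_of_H (q ≫ f) J n hJ' e y)
  have k1 : (dPullPush (q ≫ f)).homEquiv _ _ (((EtCoh.pull (q ≫ f)).mapDerivedCategorySingleFunctor 0).hom.app F ≫
      (singleFunctor (EtCoh.Ab U) 0).map b) = (singleFunctor (EtCoh.Ab S) 0).map
        ((EtCoh.pullPushAdj (q ≫ f)).homEquiv _ _ b) ≫ rho (EtCoh.push (q ≫ f)) J :=
    homEquiv_single (EtCoh.pullPushAdj (q ≫ f)) b
  rw [k1] at key
  have i4 : IsIso (rho (EtCoh.push (q ≫ f)) J) := isIso_rho J hJ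
  have key2 := eq_zero_of_comp_rho (pullD g) x _ _ key
  have key3 : (cls g ξ).comp (Ext.mk₀ ((EtCoh.pull g).map ((EtCoh.pullPushAdj (q ≫ f)).homEquiv _ _ b)))
      (add_zero n) = 0 := by
    rw [← mor_eq_zero_iff, ← mor_comp_map, hx, Category.assoc, Category.assoc, ← Functor.map_comp, key2,
      Functor.map_zero, comp_zero, comp_zero]
  rw [cls, Ext.comp_assoc_of_third_deg_zero] at key3
  have key4 := congrArg (fun t => (Ext.mk₀ (EtCore.pullConst g ℤ).inv).comp t (zero_add n)) key3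
  rw [Ext.mk₀_comp_mk₀_assoc, Iso.inv_hom_id, Ext.mk₀_id_comp, Ext.comp_zero] at key4
  exact key4

end Groth.Agent.Etbc.H182.Derived
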