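import Groth.Agent.Etbc.H182.ClassTransp
import Groth.Agent.Etrest.DEtMate
import Groth.Agent.Etrest.HPost2

/-!
# Cohomology classes on the corners of a square of schemes

For `w : g' ≫ f = f' ≫ g` and classes `ξ ∈ H^n(S', g⁻¹F)`, `ζ ∈ H^n(X, f⁻¹F)` with the same image in
`H^n(X', (f' ≫ g)⁻¹ F)`: the corresponding morphisms of derived categories are compatible with `cmpD w`.
-/

set_option autoImplicit false
universe w u v

open CategoryTheory CategoryTheory.Limits AlgebraicGeometry Opposite CategoryTheory.Abelian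

attribute [local instance] HasDerivedCategory.standard

noncomputable section
namespace Groth.Agent.Etbc.H182.EtClass

open Groth.Agent.Etrest.HPost Groth.Agent.Etrest.DEtMate Groth.Agent.Etcore.PullCoh
  Groth.Agent.Etrest.RDer5 ClassTransp

theorem aux_ext {A : Type u} [Category.{v} A] [Abelian A] [HasExt.{w} A] {c Zf Zg W1 W2 F1 F2 F0 : A} {n : ℕ}
    (ξ : Ext Zg F1 n) (ζ : Ext Zf F2 n) (a : W1 ⟶ Zg) (b : W2 ⟶ Zf) (e1 : Zg ≅ c) (e2 : Zf ≅ c)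
    (t1 : F1 ⟶ F0) (t2 : F2 ⟶ F0) [IsIso t2] (k1 : F1 ⟶ F2) (hk : k1 ≫ t2 = t1) (kZ : W1 ⟶ W2)
    (hkZ : kZ ≫ b ≫ e2.hom = a ≫ e1.hom)
    (h : ((Ext.mk₀ e1.inv).comp ξ (zero_add n)).comp (Ext.mk₀ t1) (add_zero n) =
      ((Ext.mk₀ e2.inv).comp ζ (zero_add n)).comp (Ext.mk₀ t2) (add_zero n)) :
    ((Ext.mk₀ a).comp ξ (zero_add n)).comp (Ext.mk₀ k1) (add_zero n) =
      (Ext.mk₀ kZ).comp ((Ext.mk₀ b).comp ζ (zero_add n)) (zero_add n) := by
  have h1 : k1 = t1 ≫ inv t2 := by rw [← hk, Category.assoc, IsIso.hom_inv_id, Category.comp_id]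
  rw [Ext.comp_assoc_of_third_deg_zero, Ext.comp_assoc_of_third_deg_zero] at h
  have h2 : ξ.comp (Ext.mk₀ t1) (add_zero n) =
      (Ext.mk₀ (e1.hom ≫ e2.inv)).comp (ζ.comp (Ext.mk₀ t2) (add_zero n)) (zero_add n) := by
    have h3 := congrArg (fun t => (Ext.mk₀ e1.hom).comp t (zero_add n)) h
    rwa [Ext.mk₀_comp_mk₀_assoc, Ext.mk₀_comp_mk₀_assoc, Iso.hom_inv_id, Ext.mk₀_id_comp] at h3
  have h4 : ξ.comp (Ext.mk₀ k1) (add_zero n) = (Ext.mk₀ (e1.hom ≫ e2.inv)).comp ζ (zero_add n) := by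
    rw [h1, ← Ext.mk₀_comp_mk₀, ← Ext.comp_assoc_of_third_deg_zero, h2, Ext.comp_assoc_of_third_deg_zero,
      Ext.comp_assoc_of_third_deg_zero, Ext.mk₀_comp_mk₀, IsIso.hom_inv_id, Ext.comp_mk₀_id]
  have h5 : a ≫ e1.hom ≫ e2.inv = kZ ≫ b := by
    rw [← Category.assoc, ← hkZ, Category.assoc, Category.assoc, Iso.hom_inv_id, Category.comp_id]
  rw [Ext.comp_assoc_of_third_deg_zero, h4, Ext.mk₀_comp_mk₀_assoc, Ext.mk₀_comp_mk₀_assoc, h5]

variable {X S X' S' : Scheme.{u}} {f : X ⟶ S} {g : S' ⟶ S} {f' : X' ⟶ S'} {g' : X' ⟶ X}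

theorem cmp_th (w : g' ≫ f = f' ≫ g) (F : EtCoh.Ab S) :
    (cmp w).hom.app F ≫ th g' f (f' ≫ g) w F = th f' g (f' ≫ g) rfl F := by
  have h1 := cmp_hom_eq w
  have h2 : (cmp w).hom ≫ (theta g' f (f' ≫ g) w).hom = (theta f' g (f' ≫ g) rfl).hom := by
    rw [h1]
    simp only [theta, Iso.trans_hom, Iso.symm_hom, Category.assoc, Iso.hom_inv_id_assoc]
    congr 1
    simp [EtCore.pullCongr]
  exact congrArg (fun t => t.app F) h2

variable [PreservesFiniteLimits (EtCoh.pull f)] [PreservesFiniteLimits (EtCoh.pull g)]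
  [PreservesFiniteLimits (EtCoh.pull f')] [PreservesFiniteLimits (EtCoh.pull g')]

/-- The Ext class between pulled back sheaves attached to a cohomology class. -/
def cls (g : S' ⟶ S) {F : EtCoh.Ab S} {n : ℕ} (ξ : EtCoh.H S' ((EtCoh.pull g).obj F) n) :
    Ext ((EtCoh.pull g).obj (EtCoh.const S ℤ)) ((EtCoh.pull g).obj F) n :=
  (Ext.mk₀ (EtCore.pullConst g ℤ).hom).comp ξ (zero_add n)

theorem ext_eq (w : g' ≫ f = f' ≫ g) {F : EtCoh.Ab S} {n : ℕ} (ξ : EtCoh.H S' ((EtCoh.pull g).obj F) n)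
    (ζ : EtCoh.H X ((EtCoh.pull f).obj F) n)
    (h : EtCore.HpullVia f' g (f' ≫ g) rfl F n ξ = EtCore.HpullVia g' f (f' ≫ g) w F n ζ) :
    ((cls g ξ).mapExactFunctor (EtCoh.pull f')).comp (Ext.mk₀ ((cmp w).hom.app F)) (add_zero n) =
      (Ext.mk₀ ((cmp w).hom.app (EtCoh.const S ℤ))).comp
        ((cls f ζ).mapExactFunctor (EtCoh.pull g')) (zero_add n) := by
  have h1 := h
  rw [HpullVia_post, HpullVia_post, post_apply, post_apply] at h1
  rw [cls, cls, Ext.mapExactFunctor_comp, Ext.mapExactFunctor_comp, Ext.mapExactFunctor_mk₀,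
    Ext.mapExactFunctor_mk₀]
  refine aux_ext _ _ _ _ (EtCore.pullConst f' ℤ) (EtCore.pullConst g' ℤ) _ _ _ (cmp_th w F) _ ?_ h1
  rw [pullConst_comp f' g (f' ≫ g) rfl ℤ, pullConst_comp g' f (f' ≫ g) w ℤ, ← Category.assoc, cmp_th]

end Groth.Agent.Etbc.H182.EtClass
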