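import Groth.Agent.Etbc.H185.BcMap
import Groth.Agent.EtpbcB.IntegralDegZero
import Groth.Agent.EtpbcA.ClosedPushExact
import Groth.Agent.Etrest.HPost2
import Groth.Prelude.Def_EtAcyc
import Mathlib.AlgebraicGeometry.IdealSheaf.Subscheme

/-!
# Derived base change along closed immersions, and the easy direction of the descent criterion

* `exists_closed`: every closed subset is the image of a closed immersion;
* `isIso_bcMap`: `EtBC.bcMap` is an isomorphism at every sheaf for a cartesian square over a closed immersion.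
* `forward`: the easy direction of S3521.
-/

set_option autoImplicit false
universe u

open CategoryTheory CategoryTheory.Limits AlgebraicGeometry Opposite

attribute [local instance] HasDerivedCategory.standard

noncomputable section
namespace Groth.Agent.Etbc.H182.Forward

open Groth.Agent.Etrest.HPost Groth.Agent.Etrest Groth.Agent.Etrest.RDer2

theorem exists_closed {X : Scheme.{u}} (Z : Set X) (hZ : IsClosed Z) :
    ∃ (Xb : Scheme.{u}) (p : Xb ⟶ X), IsClosedImmersion p ∧ Set.range p.base = Z := by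
  refine ⟨(Scheme.IdealSheafData.vanishingIdeal ⟨Z, hZ⟩).subscheme,
    (Scheme.IdealSheafData.vanishingIdeal ⟨Z, hZ⟩).subschemeι, inferInstance, ?_⟩
  have h := Scheme.IdealSheafData.range_subschemeι (Scheme.IdealSheafData.vanishingIdeal (X := X) ⟨Z, hZ⟩)
  rw [Scheme.IdealSheafData.coe_support_vanishingIdeal] at h
  exact h

theorem isAcyc_closed {X Y : Scheme.{u}} (i : X ⟶ Y) [IsClosedImmersion i] (F : EtCoh.Ab X) :
    IsAcyc (EtCoh.push i) F :=
  fun n => EtpbcA.ClosedPushExact.isZero_Rpush i F (n + 1) (by omega)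

theorem isIso_bcMap {X Y X' Y' : Scheme.{u}} (f : X ⟶ Y) [IsClosedImmersion f] (g : Y' ⟶ Y) (f' : X' ⟶ Y')
    (g' : X' ⟶ X) (sq : IsPullback g' f' f g) [PreservesFiniteLimits (EtCoh.pull g)]
    [PreservesFiniteLimits (EtCoh.pull g')] [DCoh.HasRpushEt X f] [DCoh.HasRpushEt X' f']
    [DCoh.HasRpushEt Y' g] (adj : EtBC.pullD g ⊣ DCoh.RpushEt Y' g) (F : EtCoh.Ab X) :
    IsIso (EtBC.bcMap f g f' g' sq.w adj (EtBC.single X F)) := by
  have : IsClosedImmersion f' := MorphismProperty.of_isPullback (P := @IsClosedImmersion) sq inferInstance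
  exact H185.BcMap.isIso_bcMap_of_acyc f g f' g' sq.w adj _
    ((CochainComplex.singleFunctor (EtCoh.Ab X) 0).obj F) 0
    ⟨((DerivedCategory.singleFunctorIsoCompQ (EtCoh.Ab X) 0).app F).symm⟩
    (fun i => isAcyc_closed f _) (fun i => isAcyc_closed f' _)
    (fun i => EtpbcB.IntegralDegZero.isIso_baseChange0 f sq _)

/-- The easy direction. -/
theorem forward {X Y : Scheme.{u}} (h : Y ⟶ X) (L : Set ℕ) (n : ℕ)
    [PreservesFiniteLimits (EtCoh.pull h)] [DCoh.HasRpushEt Y h] (adj : EtBC.pullD h ⊣ DCoh.RpushEt Y h)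
    (F : EtCoh.Ab X) (ξ : EtCoh.H Y ((EtCoh.pull h).obj F) (n + 1))
    (hξ : ξ ∈ Set.range (EtCore.Hpull h F (n + 1))) (X' : Set X) (hX' : IsClosed X') (hne : X'.Nonempty) :
    ∃ (Xb : Scheme.{u}) (p : Xb ⟶ X),
          Set.range p.base ⊆ X' ∧
          (∃ V : Set X, IsOpen V ∧ (V ∩ X').Nonempty ∧ V ∩ X' ⊆ Set.range p.base) ∧
          (∀ [PreservesFiniteLimits (EtCoh.pull (pullback.fst p h))] [DCoh.HasRpushEt Xb p]
            [DCoh.HasRpushEt (pullback p h) (pullback.snd p h)] (Fb : EtCoh.Ab Xb), EtAcyc.IsLTorsion L Fb →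
            ∀ i : ℤ, i ≤ (n : ℤ) + 1 → IsIso ((DerivedCategory.homologyFunctor (EtCoh.Ab Y) i).map
              (EtBC.bcMap p h (pullback.snd p h) (pullback.fst p h) pullback.condition adj (EtBC.single Xb Fb)))) ∧
          (∀ [PreservesFiniteLimits (EtCoh.pull (pullback.snd p h))] [PreservesFiniteLimits (EtCoh.pull (pullback.fst p h))],
            EtCore.HpullVia (pullback.snd p h) h (pullback.snd p h ≫ h) rfl F (n + 1) ξ ∈
              Set.range (EtCore.HpullVia (pullback.fst p h) p (pullback.snd p h ≫ h) pullback.condition F (n + 1))) := by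
  obtain ⟨Xb, p, hp, hr⟩ := exists_closed X' hX'
  obtain ⟨η, rfl⟩ := hξ
  refine ⟨Xb, p, hr.le, ⟨Set.univ, isOpen_univ, ?_, ?_⟩, ?_, ?_⟩
  · rwa [Set.univ_inter]
  · rw [Set.univ_inter, hr]
  · intro _ _ _ Fb _ i _
    have := isIso_bcMap p h (pullback.snd p h) (pullback.fst p h) (IsPullback.of_hasPullback p h) adj Fb
    exact Functor.map_isIso _ _
  · intro _ _
    refine ⟨EtCore.Hpull p F (n + 1) η, ?_⟩
    rw [HpullVia_Hpull, HpullVia_Hpull]

end Groth.Agent.Etbc.H182.Forward
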