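import Groth.Agent.Etbc.H182.Chase

/-!
# Statements of the pieces of S3521 (interface file: definitions of propositions only)
-/

set_option autoImplicit false
universe u

open CategoryTheory CategoryTheory.Limits AlgebraicGeometry Opposite CategoryTheory.Abelian

namespace Groth.Agent.Etbc.H182.Skel

open Groth.Agent.Etrest.HPost

/-- (Z) a class not coming from `X` has an image in a maximal quotient not coming from `X`. -/
def MaxQuotient : Prop :=
  ∀ {X Y : Scheme.{u}} [CompactSpace X] [QuasiSeparatedSpace X] [CompactSpace Y] [QuasiSeparatedSpace Y]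
    (h : Y ⟶ X) [PreservesFiniteLimits (EtCoh.pull h)] (F : EtCoh.Ab X) (n : ℕ)
    (ξ : EtCoh.H Y ((EtCoh.pull h).obj F) n), ξ ∉ Set.range (EtCore.Hpull h F n) →
    ∃ (F' : EtCoh.Ab X) (π : F ⟶ F'), Epi π ∧
      post ((EtCoh.pull h).map π) n ξ ∉ Set.range (EtCore.Hpull h F' n) ∧
      ∀ (G : EtCoh.Ab X) (ψ : F' ⟶ G), Epi ψ → ¬ Mono ψ →
        post ((EtCoh.pull h).map ψ) n (post ((EtCoh.pull h).map π) n ξ) ∈ Set.range (EtCore.Hpull h G n)

/-- (K) a sheaf which is not zero, and in which any two nonzero subsheaves meet, has a point `x` such that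
`F ⟶ q_* q⁻¹ F` is mono for every `q : U ⟶ X` whose image contains `x`. -/
def ExistsPoint : Prop :=
  ∀ {X : Scheme.{u}} [CompactSpace X] [QuasiSeparatedSpace X] (F : EtCoh.Ab X), ¬ IsZero F →
    (∀ (G₁ G₂ : EtCoh.Ab X) (ψ₁ : F ⟶ G₁) (ψ₂ : F ⟶ G₂), Epi ψ₁ → Epi ψ₂ → Mono (biprod.lift ψ₁ ψ₂) →
      Mono ψ₁ ∨ Mono ψ₂) →
    ∃ x : X, ∀ {U : Scheme.{u}} (q : U ⟶ X), x ∈ Set.range q.base → Mono ((EtCoh.pullPushAdj q).unit.app F)

/-- (T) direct images of `L`-torsion sheaves along quasi-compact quasi-separated morphisms are `L`-torsion. -/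
def PushTorsion : Prop :=
  ∀ {X Y : Scheme.{u}} (f : X ⟶ Y) [QuasiCompact f] [QuasiSeparated f] (L : Set ℕ) (F : EtCoh.Ab X),
    EtAcyc.IsLTorsion L F → EtAcyc.IsLTorsion L ((EtCoh.push f).obj F)

end Groth.Agent.Etbc.H182.Skel
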