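import Groth.Agent.Etbc.H182.Derived
import Groth.Agent.Etbc.H182.Skel
import Groth.Agent.Etbc.H185.LTors

/-!
# The descent criterion: the hard direction
-/

set_option autoImplicit false
universe u

open CategoryTheory CategoryTheory.Limits AlgebraicGeometry Opposite CategoryTheory.Abelian

attribute [local instance] HasDerivedCategory.standard

noncomputable section
namespace Groth.Agent.Etbc.H182.Main

open Groth.Agent.Etrest.HPost Groth.Agent.Etcore.PullCoh Groth.Agent.EtpbcB.TorsEtN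
  Groth.Agent.EtpbcB.TorsSubN Groth.Agent.EtpbcB.TorsVanN Groth.Agent.Etbc.H185.LTors
  Groth.Agent.Etrest.DEtPush Groth.Agent.Etrest.RDer2

variable {X Y : Scheme.{u}}

/-- Naturality of `HpullVia`. -/
theorem HpullVia_nat {X Y Z : Scheme.{u}} (f : X ⟶ Y) (t : Y ⟶ Z) (f₀ : X ⟶ Z) (w : f ≫ t = f₀)
    [PreservesFiniteLimits (EtCoh.pull f)] {G G' : EtCoh.Ab Z} (φ : G ⟶ G') (n : ℕ)
    (e : EtCoh.H Y ((EtCoh.pull t).obj G) n) :
    EtCore.HpullVia f t f₀ w G' n (post ((EtCoh.pull t).map φ) n e) =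
      post ((EtCoh.pull f₀).map φ) n (EtCore.HpullVia f t f₀ w G n e) := by
  rw [HpullVia_post, HpullVia_post, Hpull_post, post_comp, post_comp, th_nat]

theorem post_add {X : Scheme.{u}} {F G : EtCoh.Ab X} (φ ψ : F ⟶ G) (n : ℕ) (e : EtCoh.H X F n) :
    post (φ + ψ) n e = post φ n e + post ψ n e := by
  rw [post_apply, post_apply, post_apply, Ext.mk₀_add, Ext.comp_add]

/-- Two components in the range. -/
theorem mem_range_biprod (h : Y ⟶ X) [PreservesFiniteLimits (EtCoh.pull h)] {F G₁ G₂ : EtCoh.Ab X}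
    (ψ₁ : F ⟶ G₁) (ψ₂ : F ⟶ G₂) (n : ℕ) (ξ : EtCoh.H Y ((EtCoh.pull h).obj F) n)
    (h1 : post ((EtCoh.pull h).map ψ₁) n ξ ∈ Set.range (EtCore.Hpull h G₁ n))
    (h2 : post ((EtCoh.pull h).map ψ₂) n ξ ∈ Set.range (EtCore.Hpull h G₂ n)) :
    post ((EtCoh.pull h).map (biprod.lift ψ₁ ψ₂)) n ξ ∈ Set.range (EtCore.Hpull h (G₁ ⊞ G₂) n) := by
  obtain ⟨a, ha⟩ := Chase.mem_range_post h (biprod.inl : G₁ ⟶ G₁ ⊞ G₂) n h1
  obtain ⟨b, hb⟩ := Chase.mem_range_post h (biprod.inr : G₂ ⟶ G₁ ⊞ G₂) n h2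
  refine ⟨a + b, ?_⟩
  rw [map_add, ha, hb, post_comp, post_comp, ← post_add, ← Functor.map_comp, ← Functor.map_comp,
    ← Functor.map_add, ← biprod.lift_eq]

theorem isLTorsion_of_epi {L : Set ℕ} {F G : EtCoh.Ab X} (φ : F ⟶ G) [Epi φ]
    (hF : EtAcyc.IsLTorsion L F) : EtAcyc.IsLTorsion L G :=
  torsionN_of_epi (N := ordL L) φ hF

theorem isLTorsion_biprod {L : Set ℕ} {G₁ G₂ : EtCoh.Ab X} (h1 : EtAcyc.IsLTorsion L G₁)
    (h2 : EtAcyc.IsLTorsion L G₂) : EtAcyc.IsLTorsion L (G₁ ⊞ G₂) := by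
  have e1 : Epi (torsNι (ordL L) G₁) := epi_torsNι G₁ h1
  have e2 : Epi (torsNι (ordL L) G₂) := epi_torsNι G₂ h2
  have e : Epi (torsNι (ordL L) (G₁ ⊞ G₂)) := by
    refine ⟨fun a b hab => biprod.hom_ext' _ _ ?_ ?_⟩
    · rw [← cancel_epi (torsNι (ordL L) G₁), ← reassoc_of% torsNMap_ι, hab, reassoc_of% torsNMap_ι]
    · rw [← cancel_epi (torsNι (ordL L) G₂), ← reassoc_of% torsNMap_ι, hab, reassoc_of% torsNMap_ι]
  exact torsionN_of_epi (torsNι (ordL L) (G₁ ⊞ G₂)) (torsionN_torsN (isOrd_ordL L) _)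

theorem isLTorsion_pull {L : Set ℕ} (f : Y ⟶ X) {F : EtCoh.Ab X}
    (hF : EtAcyc.IsLTorsion L F) : EtAcyc.IsLTorsion L ((EtCoh.pull f).obj F) :=
  torsionN_pull (ordL L) f F hF

/-- The class dies in a sheaf containing `F`. -/
theorem exists_mono (hT : Skel.PushTorsion.{u}) [QuasiSeparatedSpace X] (h : Y ⟶ X) (L : Set ℕ) (n : ℕ)
    [PreservesFiniteLimits (EtCoh.pull h)] [DCoh.HasRpushEt Y h] (adj : EtBC.pullD h ⊣ DCoh.RpushEt Y h)
    (F : EtCoh.Ab X) (hF : EtAcyc.IsLTorsion L F) (ξ : EtCoh.H Y ((EtCoh.pull h).obj F) (n + 1))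
    (x : X) (hx : ∀ {U : Scheme.{u}} (q : U ⟶ X), x ∈ Set.range q.base →
      Mono ((EtCoh.pullPushAdj q).unit.app F))
    {Xb : Scheme.{u}} (p : Xb ⟶ X) (hp : x ∈ Set.range p.base)
    (h2 : ∀ [PreservesFiniteLimits (EtCoh.pull (pullback.fst p h))] [DCoh.HasRpushEt Xb p]
            [DCoh.HasRpushEt (pullback p h) (pullback.snd p h)] (Fb : EtCoh.Ab Xb), EtAcyc.IsLTorsion L Fb →
            ∀ i : ℤ, i ≤ (n : ℤ) + 1 → IsIso ((DerivedCategory.homologyFunctor (EtCoh.Ab Y) i).map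
              (EtBC.bcMap p h (pullback.snd p h) (pullback.fst p h) pullback.condition adj (EtBC.single Xb Fb))))
    (h3 : EtCore.HpullVia (pullback.snd p h) h (pullback.snd p h ≫ h) rfl F (n + 1) ξ ∈
              Set.range (EtCore.HpullVia (pullback.fst p h) p (pullback.snd p h ≫ h) pullback.condition F (n + 1))) :
    ∃ (A : EtCoh.Ab X) (a : F ⟶ A), Mono a ∧ EtAcyc.IsLTorsion L A ∧
      post ((EtCoh.pull h).map a) (n + 1) ξ = 0 := by
  obtain ⟨x', rfl⟩ := hp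
  obtain ⟨W, hW, hxW, -⟩ := exists_isAffineOpen_mem_and_subset (X := Xb) (x := x') (U := ⊤) trivial
  have iW : IsAffine (W : Scheme) := hW
  have hq : p.base x' ∈ Set.range (W.ι ≫ p).base := by
    refine ⟨(⟨x', hxW⟩ : W), ?_⟩
    rfl
  have hm := hx (W.ι ≫ p) hq
  have i1 : QuasiCompact (W.ι ≫ p) := inferInstance
  have i2 : QuasiSeparated (W.ι ≫ p) := inferInstance
  obtain ⟨J, hJ, b, hb⟩ := exists_mono_torsN (N := ordL L) ((EtCoh.pull (W.ι ≫ p)).obj F)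
    (isLTorsion_pull _ hF)
  refine ⟨(EtCoh.push (W.ι ≫ p)).obj (torsN (ordL L) J), (EtCoh.pullPushAdj (W.ι ≫ p)).homEquiv _ _ b, ?_,
    hT (W.ι ≫ p) L _ (torsionN_torsN (isOrd_ordL L) J), ?_⟩
  · rw [Adjunction.homEquiv_unit]
    have : Mono ((EtCoh.push (W.ι ≫ p)).map b) := inferInstance
    exact mono_comp _ _
  · obtain ⟨ζ, hζ⟩ := h3
    have e : ((n + 1 : ℕ) : ℤ) = (n : ℤ) + 1 := by push_cast; rfl
    have h2' : ∀ i : ℤ, i ≤ (n : ℤ) + 1 → IsIso ((DerivedCategory.homologyFunctor (EtCoh.Ab Y) i).map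
        ((bcEt (pullback.condition (f := p) (g := h))).app (EtBC.single Xb ((EtCoh.pull p).obj F)))) :=
      fun i hi => (H185.BcMap.homology_isIso_iff p h (pullback.snd p h) (pullback.fst p h) pullback.condition
        adj _ i).1 (h2 _ (isLTorsion_pull p hF) i hi)
    refine Derived.post_eq_zero (f := p) (g := h) pullback.condition ξ ζ hζ.symm
      (fun i hi => h2' i (by omega)) ?_ W.ι (torsN (ordL L) J)
      (fun k => acyclic_push_torsN (isOrd_ordL L) (W.ι ≫ p) J (k + 1) k.succ_pos)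
      (H_torsN (isOrd_ordL L) J (n + 1) n.succ_pos) b
    have := h2' ((n + 1 : ℕ) : ℤ) e.le
    infer_instance

/-- The hard direction of the descent criterion. -/
theorem backward (hZ : Skel.MaxQuotient.{u}) (hK : Skel.ExistsPoint.{u}) (hT : Skel.PushTorsion.{u})
    [CompactSpace X] [QuasiSeparatedSpace X]
    [CompactSpace Y] [QuasiSeparatedSpace Y] (h : Y ⟶ X) (L : Set ℕ) (n : ℕ) (hcomp : EtAcyc.CompN h L n)
    [PreservesFiniteLimits (EtCoh.pull h)] [DCoh.HasRpushEt Y h] (adj : EtBC.pullD h ⊣ DCoh.RpushEt Y h)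
    (F : EtCoh.Ab X) (hF : EtAcyc.IsLTorsion L F) (ξ : EtCoh.H Y ((EtCoh.pull h).obj F) (n + 1))
    (H : ∀ X' : Set X, IsClosed X' → X'.Nonempty →
        ∃ (Xb : Scheme.{u}) (p : Xb ⟶ X),
          Set.range p.base ⊆ X' ∧
          (∃ V : Set X, IsOpen V ∧ (V ∩ X').Nonempty ∧ V ∩ X' ⊆ Set.range p.base) ∧
          (∀ [PreservesFiniteLimits (EtCoh.pull (pullback.fst p h))] [DCoh.HasRpushEt Xb p]
            [DCoh.HasRpushEt (pullback p h) (pullback.snd p h)] (Fb : EtCoh.Ab Xb), EtAcyc.IsLTorsion L Fb →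
            ∀ i : ℤ, i ≤ (n : ℤ) + 1 → IsIso ((DerivedCategory.homologyFunctor (EtCoh.Ab Y) i).map
              (EtBC.bcMap p h (pullback.snd p h) (pullback.fst p h) pullback.condition adj (EtBC.single Xb Fb)))) ∧
          (∀ [PreservesFiniteLimits (EtCoh.pull (pullback.snd p h))] [PreservesFiniteLimits (EtCoh.pull (pullback.fst p h))],
            EtCore.HpullVia (pullback.snd p h) h (pullback.snd p h ≫ h) rfl F (n + 1) ξ ∈
              Set.range (EtCore.HpullVia (pullback.fst p h) p (pullback.snd p h ≫ h) pullback.condition F (n + 1)))) :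
    ξ ∈ Set.range (EtCore.Hpull h F (n + 1)) := by
  by_contra hξ
  obtain ⟨F', π, hπ, hξ', hmax⟩ := hZ h F (n + 1) ξ hξ
  have hF' : EtAcyc.IsLTorsion L F' := isLTorsion_of_epi π hF
  -- monomorphisms do not lose the class
  have hmono : ∀ (G : EtCoh.Ab X) (a : F' ⟶ G), EtAcyc.IsLTorsion L G → Mono a →
      post ((EtCoh.pull h).map a) (n + 1) (post ((EtCoh.pull h).map π) (n + 1) ξ) ∉
        Set.range (EtCore.Hpull h G (n + 1)) := by
    intro G a hG ha hr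
    have hc := hcomp (cokernel a) (isLTorsion_of_epi (cokernel.π a) hG)
    exact hξ' (Chase.mem_range_of_mono h a n (hc.1 n le_rfl).2 hc.2 _ hr)
  have hne : ¬ IsZero F' := by
    intro h0
    refine hξ' ⟨0, ?_⟩
    have e1 : 𝟙 ((EtCoh.pull h).obj F') = 0 := ((EtCoh.pull h).map_isZero h0).eq_of_src _ _
    rw [map_zero, ← post_id (n + 1) (post ((EtCoh.pull h).map π) (n + 1) ξ), e1, post_apply, Ext.mk₀_zero,
      Ext.comp_zero]
  obtain ⟨x, hx⟩ := hK F' hne (by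
    intro G₁ G₂ ψ₁ ψ₂ i₁ i₂ i
    by_contra hcon
    rw [not_or] at hcon
    have j1 := isLTorsion_of_epi ψ₁ hF'
    have j2 := isLTorsion_of_epi ψ₂ hF'
    exact hmono (G₁ ⊞ G₂) (biprod.lift ψ₁ ψ₂) (isLTorsion_biprod j1 j2) i
      (mem_range_biprod h ψ₁ ψ₂ (n + 1) _ (hmax G₁ ψ₁ i₁ hcon.1) (hmax G₂ ψ₂ i₂ hcon.2)))
  obtain ⟨Xb, p, hr, ⟨V, hV, hV1, hV2⟩, h2, h3⟩ := H (closure {x}) isClosed_closure ⟨x, subset_closure rfl⟩
  have hxV : x ∈ V := by
    obtain ⟨y, hyV, hy⟩ := hV1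
    obtain ⟨z, hzV, hz⟩ := mem_closure_iff.1 hy V hV hyV
    exact hz ▸ hzV
  have hxp : x ∈ Set.range p.base := hV2 ⟨hxV, subset_closure rfl⟩
  have j1 : PreservesFiniteLimits (EtCoh.pull (pullback.snd p h)) := inferInstance
  have j2 : PreservesFiniteLimits (EtCoh.pull (pullback.fst p h)) := inferInstance
  obtain ⟨ζ, hζ⟩ := h3
  obtain ⟨A, a, ha, hA, hz⟩ := exists_mono hT h L n adj F' hF' (post ((EtCoh.pull h).map π) (n + 1) ξ) x hx p hxp
    h2 ⟨post ((EtCoh.pull p).map π) (n + 1) ζ, by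
      rw [HpullVia_nat, HpullVia_nat, hζ]⟩
  exact hmono A a hA ha ⟨0, by rw [map_zero, hz]⟩

end Groth.Agent.Etbc.H182.Main
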