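import Groth.Agent.CurvesA.SubSheafEt
import Groth.Agent.Etbase.EtSections

/-!
# Directed unions of subsheaves and quotients

* the preorder on `SubData F`, `kerData t` (sections killed by `t`), `le_kerData_iff`;
* `unionData D` for a directed family; `isColimit`: `F / ⋃ Dᵢ` is the colimit of the `F / Dᵢ`.
-/

set_option autoImplicit false
universe u
open CategoryTheory CategoryTheory.Limits AlgebraicGeometry Opposite

noncomputable section
namespace Groth.Agent.Etbc.H182.MaxQ1

open Groth.Agent.CurvesA.SubSheafEt Groth.Agent.Etbase.EtSections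

variable {X : Scheme.{u}} {F : EtCoh.Ab X}

/-- Inclusion of subsheaves. -/
instance preorder : Preorder (SubData F) where
  le D D' := ∀ U, D.P U ≤ D'.P U
  le_refl _ _ := le_rfl
  le_trans _ _ _ h h' U := (h U).trans (h' U)

theorem map_app {G : EtCoh.Ab X} (t : F ⟶ G) {U V : X.Etale} (f : V ⟶ U) (s : EtCoh.sect F U) :
    t.hom.app (op V) (F.obj.map f.op s) = G.obj.map f.op (t.hom.app (op U) s) :=
  ConcreteCategory.congr_hom (t.hom.naturality f.op) s

/-- The subsheaf of sections killed by `t`. -/
def kerData {G : EtCoh.Ab X} (t : F ⟶ G) : SubData F where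
  P U := (t.hom.app (op U)).hom.ker
  res {U V} f s hs := by
    have h : t.hom.app (op U) s = 0 := hs
    change t.hom.app (op V) (F.obj.map f.op s) = 0
    rw [map_app, h, map_zero]
  loc U s h := by
    change t.hom.app (op U) s = 0
    apply eq_zero_of_vanishesAt G U
    intro x
    obtain ⟨V, f, v, hv, hs⟩ := h x
    refine ⟨V, f, v, hv, ?_⟩
    rw [← map_app]
    exact hs

theorem mem_kerData {G : EtCoh.Ab X} (t : F ⟶ G) {U : X.Etale} (s : EtCoh.sect F U) :
    s ∈ (kerData t).P U ↔ t.hom.app (op U) s = 0 := Iff.rfl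

theorem le_kerData_iff {G : EtCoh.Ab X} (t : F ⟶ G) (D : SubData F) : D ≤ kerData t ↔ ι D ≫ t = 0 := by
  constructor
  · intro h
    apply Sheaf.hom_ext
    ext U s
    exact h U.unop s.2
  · intro h U s hs
    have h1 := congrArg (fun a : sub D ⟶ G => a.hom.app (op U) ⟨s, hs⟩) h
    exact h1

section union

variable {I : Type (u + 1)} [Preorder I] [IsDirectedOrder I] [Nonempty I] (D : I → SubData F)
  (hD : Monotone D)

/-- The union of a directed family of subsheaves. -/
def unionData : SubData F where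
  P U :=
    { carrier := {s | ∀ x : U.left, ∃ (V : X.Etale) (f : V ⟶ U) (v : V.left), f.left v = x ∧
        ∃ i, F.obj.map f.op s ∈ (D i).P V}
      zero_mem' := fun x => ⟨U, 𝟙 U, x, rfl, Classical.arbitrary I, by
        rw [map_zero]; exact AddSubgroup.zero_mem _⟩
      add_mem' := by
        intro s t hs ht x
        obtain ⟨V, f, v, hv, i, hi⟩ := hs x
        obtain ⟨V', f', v', hv', j, hj⟩ := ht x
        obtain ⟨P, a, b, p, hab, ha, hb⟩ := Etbase.EtSite.exists_pullback f f' v v' (hv.trans hv'.symm)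
        obtain ⟨k, hik, hjk⟩ := exists_ge_ge i j
        refine ⟨P, a ≫ f, p, ?_, k, ?_⟩
        · rw [← hv, ← ha]; rfl
        · rw [map_add]
          refine AddSubgroup.add_mem _ ?_ ?_
          · rw [← map_map]
            exact hD hik P ((D i).res a _ hi)
          · rw [hab, ← map_map]
            exact hD hjk P ((D j).res b _ hj)
      neg_mem' := by
        intro s hs x
        obtain ⟨V, f, v, hv, i, hi⟩ := hs x
        exact ⟨V, f, v, hv, i, by rw [map_neg]; exact AddSubgroup.neg_mem _ hi⟩ }
  res {U V} f s hs := by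
    intro x
    obtain ⟨V', f', v', hv', i, hi⟩ := hs (f.left x)
    obtain ⟨P, a, b, p, hab, ha, hb⟩ := Etbase.EtSite.exists_pullback f f' x v' hv'.symm
    refine ⟨P, a, p, ha, i, ?_⟩
    rw [map_map, hab, ← map_map]
    exact (D i).res b _ hi
  loc U s h := by
    intro x
    obtain ⟨V, f, v, hv, hs⟩ := h x
    obtain ⟨V', f', v', hv', i, hi⟩ := hs v
    refine ⟨V', f' ≫ f, v', ?_, i, ?_⟩
    · rw [← hv, ← hv']; rfl
    · rw [← map_map]; exact hi

theorem le_unionData (i : I) : D i ≤ unionData D hD :=
  fun U s hs x => ⟨U, 𝟙 U, x, rfl, i, by rwa [op_id, F.obj.map_id]⟩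

theorem unionData_le {E : SubData F} (h : ∀ i, D i ≤ E) : unionData D hD ≤ E := by
  intro U s hs
  refine E.loc U s (fun x => ?_)
  obtain ⟨V, f, v, hv, i, hi⟩ := hs x
  exact ⟨V, f, v, hv, h i V hi⟩

/-- The quotients `F / Dᵢ`. -/
def quot : I ⥤ EtCoh.Ab X where
  obj i := cokernel (ι (D i))
  map {i j} f := cokernel.desc (ι (D i)) (cokernel.π (ι (D j))) (by
    rw [← incl_ι (hD (leOfHom f)), Category.assoc, cokernel.condition, comp_zero])
  map_id i := by
    rw [← cancel_epi (cokernel.π (ι (D i))), cokernel.π_desc, Category.comp_id]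
  map_comp {i j k} f g := by
    rw [← cancel_epi (cokernel.π (ι (D i))), cokernel.π_desc, cokernel.π_desc_assoc, cokernel.π_desc]

/-- The projection `F ⟶ F / Dᵢ`. -/
def pr (i : I) : F ⟶ (quot D hD).obj i := cokernel.π (ι (D i))

instance epi_pr (i : I) : Epi (pr D hD i) := inferInstanceAs (Epi (cokernel.π (ι (D i))))

theorem pr_map {i j : I} (f : i ⟶ j) : pr D hD i ≫ (quot D hD).map f = pr D hD j := cokernel.π_desc _ _ _

theorem ι_pr (i : I) : ι (D i) ≫ pr D hD i = 0 := cokernel.condition _

/-- The map `F / Dᵢ ⟶ F / ⋃ Dᵢ`. -/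
def toPt (i : I) : (quot D hD).obj i ⟶ cokernel (ι (unionData D hD)) :=
  cokernel.desc (ι (D i)) (cokernel.π (ι (unionData D hD))) (by
    rw [← incl_ι (le_unionData D hD i), Category.assoc, cokernel.condition, comp_zero])

theorem pr_toPt (i : I) : pr D hD i ≫ toPt D hD i = cokernel.π (ι (unionData D hD)) := cokernel.π_desc _ _ _

/-- The cocone with point `F / ⋃ Dᵢ`. -/
def cocone : Cocone (quot D hD) where
  pt := cokernel (ι (unionData D hD))
  ι :=
    { app i := toPt D hD i
      naturality i j f := by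
        rw [← cancel_epi (pr D hD i), ← Category.assoc, pr_map]
        refine (pr_toPt D hD j).trans ((pr_toPt D hD i).symm.trans ?_)
        exact congrArg (fun t => pr D hD i ≫ t) (Category.comp_id _).symm }

theorem pr_cocone (i : I) : pr D hD i ≫ (cocone D hD).ι.app i = cokernel.π (ι (unionData D hD)) :=
  pr_toPt D hD i

theorem pr_cocone_eq (s : Cocone (quot D hD)) (i j : I) : pr D hD i ≫ s.ι.app i = pr D hD j ≫ s.ι.app j := by
  obtain ⟨k, hik, hjk⟩ := exists_ge_ge i j
  have h1 := congrArg (fun t => pr D hD i ≫ t) (s.w (homOfLE hik))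
  have h2 := congrArg (fun t => pr D hD j ≫ t) (s.w (homOfLE hjk))
  refine h1.symm.trans (Eq.trans ?_ h2)
  exact (Category.assoc _ _ _).symm.trans ((congrArg (fun t => t ≫ s.ι.app k) ((pr_map D hD _).trans
    (pr_map D hD _).symm)).trans (Category.assoc _ _ _))

theorem union_condition (s : Cocone (quot D hD)) (i : I) :
    ι (unionData D hD) ≫ pr D hD i ≫ s.ι.app i = 0 := by
  rw [← le_kerData_iff]
  refine unionData_le D hD (fun j => ?_)
  rw [le_kerData_iff, pr_cocone_eq D hD s i j]
  exact (Category.assoc _ _ _).symm.trans ((congrArg (fun t => t ≫ s.ι.app j) (ι_pr D hD j)).trans zero_comp)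

/-- `F / ⋃ Dᵢ` is the colimit of the `F / Dᵢ`. -/
def isColimit : IsColimit (cocone D hD) where
  desc s := cokernel.desc _ (pr D hD (Classical.arbitrary I) ≫ s.ι.app (Classical.arbitrary I))
    (union_condition D hD s _)
  fac s i := by
    apply (epi_pr D hD i).left_cancellation
    refine (Category.assoc _ _ _).symm.trans ((congrArg (fun t => t ≫ _) (pr_cocone D hD i)).trans ?_)
    exact (cokernel.π_desc _ _ _).trans (pr_cocone_eq D hD s _ _)
  uniq s m hm := by
    have e : Epi (cokernel.π (ι (unionData D hD))) := inferInstance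
    apply e.left_cancellation
    refine Eq.trans ?_ (cokernel.π_desc _ _ _).symm
    refine Eq.trans ?_ (congrArg (fun t => pr D hD (Classical.arbitrary I) ≫ t) (hm (Classical.arbitrary I)))
    exact (congrArg (fun t => t ≫ m) (pr_cocone D hD (Classical.arbitrary I)).symm).trans (Category.assoc _ _ _)

end union

end Groth.Agent.Etbc.H182.MaxQ1
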