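import Groth.Agent.Etbc.H182.MaxQ1
import Groth.Agent.Etbc.H182.Skel
import Groth.Agent.Etbase.EtColimBig
import Mathlib.Order.Zorn

/-!
# Maximal quotients on which a class does not come from the base
-/

set_option autoImplicit false
universe u
open CategoryTheory CategoryTheory.Limits AlgebraicGeometry Opposite

noncomputable section
namespace Groth.Agent.Etbc.H182.MaxQ2

open Groth.Agent.CurvesA.SubSheafEt Groth.Agent.Etrest.HPost MaxQ1

variable {X Y : Scheme.{u}}

theorem HF_map (n : ℕ) {F G : EtCoh.Ab X} (φ : F ⟶ G) (e : EtCoh.H X F n) :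
    ((EtCoh.HF X n).map φ).hom e = post φ n e := rfl

/-- A class which comes from the base at the colimit of a directed system comes from the base at some stage. -/
theorem exists_mem_range [CompactSpace X] [QuasiSeparatedSpace X] [CompactSpace Y] [QuasiSeparatedSpace Y]
    {I : Type (u + 1)} [Preorder I] [IsDirectedOrder I] [Nonempty I] (Q : I ⥤ EtCoh.Ab X) (c : Cocone Q)
    (hc : IsColimit c) (h : Y ⟶ X) [PreservesFiniteLimits (EtCoh.pull h)] (n : ℕ) (i₀ : I)
    (ξ : EtCoh.H Y ((EtCoh.pull h).obj (Q.obj i₀)) n)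
    (hξ : post ((EtCoh.pull h).map (c.ι.app i₀)) n ξ ∈ Set.range (EtCore.Hpull h c.pt n)) :
    ∃ (j : I) (f : i₀ ⟶ j), post ((EtCoh.pull h).map (Q.map f)) n ξ ∈ Set.range (EtCore.Hpull h (Q.obj j) n) := by
  have iX := Etbase.EtColimBig.preservesColimits_HF_big X I n
  have iY := Etbase.EtColimBig.preservesColimits_HF_big Y I n
  have iP : PreservesColimitsOfShape I (EtCoh.pull h) :=
    (EtCoh.pullPushAdj h).leftAdjoint_preservesColimits.preservesColimitsOfShape
  obtain ⟨η, hη⟩ := hξ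
  have cX := isColimitOfPreserves (EtCoh.HF X n) hc
  have cY := isColimitOfPreserves (EtCoh.HF Y n) (isColimitOfPreserves (EtCoh.pull h) hc)
  obtain ⟨i₁, η₁, hη₁⟩ : ∃ (i₁ : I) (η₁ : EtCoh.H X (Q.obj i₁) n), post (c.ι.app i₁) n η₁ = η := by
    obtain ⟨i₁, η₁, hη₁⟩ := Concrete.isColimit_exists_rep (Q ⋙ EtCoh.HF X n) cX η
    exact ⟨i₁, η₁, hη₁⟩
  obtain ⟨k, h0, h1⟩ := exists_ge_ge i₀ i₁
  have key : post ((EtCoh.pull h).map (c.ι.app k)) n (post ((EtCoh.pull h).map (Q.map (homOfLE h0))) n ξ) =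
      post ((EtCoh.pull h).map (c.ι.app k)) n
        (EtCore.Hpull h (Q.obj k) n (post (Q.map (homOfLE h1)) n η₁)) := by
    have e0 : post ((EtCoh.pull h).map (c.ι.app k)) n
        (post ((EtCoh.pull h).map (Q.map (homOfLE h0))) n ξ) = post ((EtCoh.pull h).map (c.ι.app i₀)) n ξ := by
      rw [post_comp, ← Functor.map_comp]
      exact congrArg (fun t => post ((EtCoh.pull h).map t) n ξ) (c.w (homOfLE h0))
    have e1 : post (c.ι.app k) n (post (Q.map (homOfLE h1)) n η₁) = η := by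
      rw [post_comp, ← hη₁]
      exact congrArg (fun t => post t n η₁) (c.w (homOfLE h1))
    have e2 := Hpull_post h (c.ι.app k) n (post (Q.map (homOfLE h1)) n η₁)
    rw [e0, ← hη]
    exact (congrArg (EtCore.Hpull h c.pt n) e1.symm).trans e2
  obtain ⟨l, a, b, hab⟩ := Concrete.isColimit_exists_of_rep_eq (Q ⋙ EtCoh.pull h ⋙ EtCoh.HF Y n) cY
    (i := k) (j := k) (post ((EtCoh.pull h).map (Q.map (homOfLE h0))) n ξ)
    (EtCore.Hpull h (Q.obj k) n (post (Q.map (homOfLE h1)) n η₁)) key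
  obtain rfl : a = b := Subsingleton.elim a b
  refine ⟨l, homOfLE h0 ≫ a, post (Q.map a) n (post (Q.map (homOfLE h1)) n η₁), ?_⟩
  rw [Hpull_post, Q.map_comp, Functor.map_comp, ← post_comp]
  exact hab.symm

/-- The quotient of `F` by the subsheaf `D`. -/
abbrev Bad (h : Y ⟶ X) [PreservesFiniteLimits (EtCoh.pull h)] {F : EtCoh.Ab X} (n : ℕ)
    (ξ : EtCoh.H Y ((EtCoh.pull h).obj F) n) (D : SubData F) : Prop :=
  post ((EtCoh.pull h).map (cokernel.π (ι D))) n ξ ∉ Set.range (EtCore.Hpull h (cokernel (ι D)) n)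

theorem exists_bad (h : Y ⟶ X) [PreservesFiniteLimits (EtCoh.pull h)] {F : EtCoh.Ab X} (n : ℕ)
    (ξ : EtCoh.H Y ((EtCoh.pull h).obj F) n) (hξ : ξ ∉ Set.range (EtCore.Hpull h F n)) :
    Bad h n ξ (kerData (𝟙 F)) := by
  have h0 : ι (kerData (𝟙 F)) = 0 := by
    have := (le_kerData_iff (𝟙 F) (kerData (𝟙 F))).1 le_rfl
    rwa [Category.comp_id] at this
  intro hr
  apply hξ
  have hr' := Chase.mem_range_post h (cokernel.desc (ι (kerData (𝟙 F))) (𝟙 F) (by rw [h0, zero_comp])) n hr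
  rw [post_comp, ← Functor.map_comp, cokernel.π_desc, CategoryTheory.Functor.map_id, post_id] at hr'
  exact hr'

theorem bad_union [CompactSpace X] [QuasiSeparatedSpace X] [CompactSpace Y] [QuasiSeparatedSpace Y]
    (h : Y ⟶ X) [PreservesFiniteLimits (EtCoh.pull h)] {F : EtCoh.Ab X} (n : ℕ)
    (ξ : EtCoh.H Y ((EtCoh.pull h).obj F) n) {I : Type (u + 1)} [Preorder I] [IsDirectedOrder I] [Nonempty I]
    (D : I → SubData F) (hD : Monotone D) (hb : ∀ i, Bad h n ξ (D i)) : Bad h n ξ (unionData D hD) := by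
  intro hr
  let i₀ : I := Classical.arbitrary I
  have hr' : post ((EtCoh.pull h).map ((cocone D hD).ι.app i₀)) n (post ((EtCoh.pull h).map (pr D hD i₀)) n ξ) ∈
      Set.range (EtCore.Hpull h (cocone D hD).pt n) := by
    rw [post_comp, ← Functor.map_comp]
    have e := pr_cocone D hD i₀
    exact (congrArg (fun t => post ((EtCoh.pull h).map t) n ξ ∈
      Set.range (EtCore.Hpull h (cokernel (ι (unionData D hD))) n)) e).mpr hr
  obtain ⟨j, f, hf⟩ := exists_mem_range (quot D hD) (cocone D hD) (isColimit D hD) h n i₀ _ hr'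
  rw [post_comp, ← Functor.map_comp, pr_map] at hf
  exact hb j hf

theorem maxQuotient : Skel.MaxQuotient.{u} := by
  intro X Y _ _ _ _ h _ F n ξ hξ
  obtain ⟨m, -, hm⟩ := zorn_le_nonempty₀ {D : SubData F | Bad h n ξ D} (by
    intro c hc hch y hy
    have : Nonempty c := ⟨⟨y, hy⟩⟩
    have : IsDirectedOrder c := ⟨fun a b => (hch.total a.2 b.2).elim (fun h => ⟨b, h, le_refl b⟩)
      (fun h => ⟨a, le_refl a, h⟩)⟩
    exact ⟨unionData (fun i : c => i.1) (fun i j hij => hij), bad_union h n ξ _ _ (fun i => hc i.2),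
      fun z hz => le_unionData (fun i : c => i.1) _ ⟨z, hz⟩⟩) (kerData (𝟙 F)) (exists_bad h n ξ hξ)
  refine ⟨cokernel (ι m), cokernel.π (ι m), inferInstance, hm.1, ?_⟩
  intro G ψ hψ hmono
  by_contra hr
  apply hmono
  have h1 : m ≤ kerData (cokernel.π (ι m) ≫ ψ) := by
    rw [le_kerData_iff, cokernel.condition_assoc, zero_comp]
  have h2 : Bad h n ξ (kerData (cokernel.π (ι m) ≫ ψ)) := by
    intro hr'
    apply hr
    have h3 : ι (kerData (cokernel.π (ι m) ≫ ψ)) ≫ (cokernel.π (ι m) ≫ ψ) = 0 :=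
      (le_kerData_iff _ _).1 le_rfl
    have h4 := Chase.mem_range_post h (cokernel.desc _ _ h3) n hr'
    rw [post_comp, ← Functor.map_comp, cokernel.π_desc] at h4
    rwa [post_comp, ← Functor.map_comp]
  have h5 : kerData (cokernel.π (ι m) ≫ ψ) ≤ m := hm.2 h2 h1
  refine Preadditive.mono_of_cancel_zero _ (fun {Z} g hg => ?_)
  have e1 : pullback.snd g (cokernel.π (ι m)) ≫ (cokernel.π (ι m) ≫ ψ) = 0 := by
    rw [← Category.assoc, ← pullback.condition, Category.assoc, hg, comp_zero]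
  have e2 : pullback.snd g (cokernel.π (ι m)) ≫ cokernel.π (ι m) = 0 := by
    have e3 : ∀ (U : X.Etale) (s : EtCoh.sect (pullback g (cokernel.π (ι m))) U),
        (pullback.snd g (cokernel.π (ι m))).hom.app (op U) s ∈ m.P U := by
      intro U s
      apply h5 U
      rw [mem_kerData]
      exact congrArg (fun t : pullback g (cokernel.π (ι m)) ⟶ G => t.hom.app (op U) s) e1
    rw [← lift_ι m _ e3, Category.assoc, cokernel.condition, comp_zero]
  rw [← cancel_epi (pullback.fst g (cokernel.π (ι m))), pullback.condition, e2, comp_zero]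

end Groth.Agent.Etbc.H182.MaxQ2
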