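import Groth.Agent.Etrest.RDer5

/-!
# Derived adjunctions and objects in degree zero

`adj : L ⊣ G`, `L` exact.
* `rho G J : (G J)[0] ⟶ TR G (J[0])`, an isomorphism if `J` is `G`-acyclic;
* `homEquiv_single`: the transpose of `L (X[0]) ≅ (L X)[0] ⟶ J[0]` is `X[0] ⟶ (G J)[0] ⟶ TR G (J[0])`;
* `cD_single`: the transformation `cD c` on objects in degree zero.
-/

set_option autoImplicit false
universe w w' w'' w''' v v' v'' v''' u u' u'' u'''
open CategoryTheory CategoryTheory.Limits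

noncomputable section
namespace Groth.Agent.Etbc.H182.SingleTransp

open Groth.Agent.Etrest.RDer2 Groth.Agent.Etrest.RDer3 Groth.Agent.Etrest.RDer4 Groth.Agent.Etrest.RDer5
  DerivedCategory

section aux

variable {A B : Type*} [Category* A] [Category* B] {L : A ⥤ B} {G : B ⥤ A} (adj : L ⊣ G)

theorem aux0 {X : A} {J : B} (b : L.obj X ⟶ J) {X0 GJ0 : A} (s : X0 ⟶ X) (t : GJ0 ≅ G.obj J)
    {J0 LX0 : B} (r : J ⟶ J0) (m : LX0 ≅ L.obj X) :
    L.map ((s ≫ adj.homEquiv _ _ b ≫ t.inv) ≫ (t.hom ≫ G.map r)) ≫ adj.counit.app J0 =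
      (L.map s ≫ m.inv) ≫ (m.hom ≫ b ≫ r) := by
  have h2 : L.map (adj.homEquiv _ _ b) ≫ adj.counit.app J = b := by
    have := (adj.homEquiv X J).symm_apply_apply b
    rwa [Adjunction.homEquiv_counit] at this
  have h3 := adj.counit.naturality r
  dsimp at h3
  simp only [Category.assoc, Iso.inv_hom_id_assoc, Functor.map_comp]
  rw [h3, reassoc_of% h2]

end aux

section fac

/-- The single complex in degree zero. -/
abbrev sg (A : Type u) [Category.{v} A] [Abelian A] (X : A) : CochainComplex A ℤ :=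
  (HomologicalComplex.single A (.up ℤ) 0).obj X

theorem iso_aux {D : Type*} [Category* D] {a b c : D} (e : a ≅ b) (x : a ⟶ c) (y : b ⟶ c)
    (h : e.inv ≫ x = y) : x = e.hom ≫ y := by
  rw [← h, Iso.hom_inv_id_assoc]

variable {A : Type u} [Category.{v} A] [Abelian A] [HasDerivedCategory.{w} A]
  {B : Type u'} [Category.{v'} B] [Abelian B] [HasDerivedCategory.{w'} B]
  (L : A ⥤ B) [L.Additive] [PreservesFiniteLimits L] [PreservesFiniteColimits L]

theorem mDSingle_hom (X : A) : (L.mapDerivedCategorySingleFunctor 0).hom.app X =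
    L.mapDerivedCategoryFactors.hom.app (sg A X) ≫
      Q.map ((HomologicalComplex.singleMapHomologicalComplex L (.up ℤ) 0).hom.app X) :=
  iso_aux (L.mapDerivedCategoryFactors.app (sg A X)) _ _
    (L.mapDerivedCategoryFactors_inv_app_mapDerivedCategorySingleFunctor_hom_app X)

end fac

section adj

variable {A : Type u} [Category.{v} A] [Abelian A] [HasDerivedCategory.{w} A]
  {B : Type u'} [Category.{v'} B] [Abelian B] [HasDerivedCategory.{w'} B] [HasKInj B]
  {L : A ⥤ B} {G : B ⥤ A} [L.Additive] [G.Additive] [PreservesFiniteLimits L] [PreservesFiniteColimits L]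
  (adj : L ⊣ G)

variable (G) in
/-- The canonical map `(G J)[0] ⟶ TR G (J[0])`. -/
def rho (J : B) : (singleFunctor A 0).obj (G.obj J) ⟶ (TR G).obj ((singleFunctor B 0).obj J) :=
  Q.map ((HomologicalComplex.singleMapHomologicalComplex G (.up ℤ) 0).inv.app J) ≫
    (unitQ G).app (sg B J)

theorem isIso_rho [EnoughInjectives B] [PreservesFiniteLimits G] (J : B) (hJ : IsAcyc G J) :
    IsIso (rho G J) := by
  have h : IsIso ((unitQ G).app (sg B J)) := by
    refine isIso_unitQ_of_isAcyc G (sg B J) 0 (fun i => ?_)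
    by_cases hi : i = 0
    · subst hi
      exact isAcyc_of_iso G (HomologicalComplex.singleObjXSelf (ComplexShape.up ℤ) 0 J).symm hJ
    · exact isAcyc_of_isZero G (HomologicalComplex.isZero_single_obj_X (ComplexShape.up ℤ) 0 J i hi)
  have h' : IsIso ((HomologicalComplex.singleMapHomologicalComplex G (.up ℤ) 0).inv.app J) :=
    inferInstanceAs (IsIso (((HomologicalComplex.singleMapHomologicalComplex G (.up ℤ) 0).app J).inv))
  exact IsIso.comp_isIso' (@Functor.map_isIso _ _ _ _ _ _ Q _ h') h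

theorem cx_aux {X : A} {J : B} (b : L.obj X ⟶ J) :
    (L.mapHomologicalComplex (.up ℤ)).map ((HomologicalComplex.single A (.up ℤ) 0).map (adj.homEquiv _ _ b) ≫
      (HomologicalComplex.singleMapHomologicalComplex G (.up ℤ) 0).inv.app J) ≫
      (Dcoh.DerAdj.adjCx adj (.up ℤ)).counit.app (sg B J) =
    (HomologicalComplex.singleMapHomologicalComplex L (.up ℤ) 0).hom.app X ≫
      (HomologicalComplex.single B (.up ℤ) 0).map b := by
  refine HomologicalComplex.to_single_hom_ext ?_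
  have e1 := HomologicalComplex.single_map_f_self (c := ComplexShape.up ℤ) (0 : ℤ) (adj.homEquiv _ _ b)
  have e2 := HomologicalComplex.singleMapHomologicalComplex_inv_app_self G (ComplexShape.up ℤ) 0 J
  have e3 := HomologicalComplex.singleMapHomologicalComplex_hom_app_self L (ComplexShape.up ℤ) 0 X
  have e4 := HomologicalComplex.single_map_f_self (c := ComplexShape.up ℤ) (0 : ℤ) b
  have key := aux0 adj b (HomologicalComplex.singleObjXSelf (ComplexShape.up ℤ) 0 X).hom
    (HomologicalComplex.singleObjXSelf (ComplexShape.up ℤ) 0 (G.obj J))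
    (HomologicalComplex.singleObjXSelf (ComplexShape.up ℤ) 0 J).inv
    (HomologicalComplex.singleObjXSelf (ComplexShape.up ℤ) 0 (L.obj X))
  refine Eq.trans (congrArg₂ (fun s t => L.map (s ≫ t) ≫ adj.counit.app _) e1 e2) ?_
  refine key.trans ?_
  exact (congrArg₂ (fun s t => s ≫ t) e3 e4).symm

theorem chase {D D' : Type*} [Category* D] [Category* D'] (R : D ⥤ D') {a0 a1 a2 a3 : D}
    (s : a0 ⟶ a1) (k : a1 ⟶ a2) (u : a2 ⟶ a3) {c b0 b2 b3 : D'} (ε : R.obj a3 ⟶ c)
    (f2 : R.obj a2 ⟶ b2) (e2 : b2 ⟶ c) (h1 : R.map u ≫ ε = f2 ≫ e2)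
    (f0 : R.obj a0 ⟶ b0) (m : b0 ⟶ b2) (h2 : R.map (s ≫ k) ≫ f2 = f0 ≫ m)
    (y : b0 ⟶ b3) (z : b3 ⟶ c) (h3 : m ≫ e2 = y ≫ z) :
    (f0 ≫ y) ≫ z = R.map (s ≫ k ≫ u) ≫ ε := by
  rw [R.map_comp, R.map_comp]
  simp only [Category.assoc]
  rw [h1]
  rw [R.map_comp, Category.assoc] at h2
  rw [reassoc_of% h2, h3]

/-- The transpose of a map out of an object in degree zero. -/
theorem homEquiv_single {X : A} {J : B} (b : L.obj X ⟶ J) :
    (dAdj adj).homEquiv ((singleFunctor A 0).obj X) ((singleFunctor B 0).obj J)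
      ((L.mapDerivedCategorySingleFunctor 0).hom.app X ≫ (singleFunctor B 0).map b) =
    (singleFunctor A 0).map (adj.homEquiv _ _ b) ≫ rho G J := by
  apply ((dAdj adj).homEquiv _ _).symm.injective
  rw [Equiv.symm_apply_apply, Adjunction.homEquiv_counit, mDSingle_hom]
  exact chase L.mapDerivedCategory (Q.map ((HomologicalComplex.single A (.up ℤ) 0).map (adj.homEquiv _ _ b)))
    (Q.map ((HomologicalComplex.singleMapHomologicalComplex G (.up ℤ) 0).inv.app J))
    ((unitQ G).app (sg B J)) _ _ _ (dAdj_counit adj (sg B J)) (L.mapDerivedCategoryFactors.hom.app (sg A X))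
    (Q.map ((L.mapHomologicalComplex (.up ℤ)).map
      ((HomologicalComplex.single A (.up ℤ) 0).map (adj.homEquiv _ _ b) ≫
      (HomologicalComplex.singleMapHomologicalComplex G (.up ℤ) 0).inv.app J)))
    ((congrArg (fun t => L.mapDerivedCategory.map t ≫ _) (Q.map_comp _ _).symm).trans
      (L.mapDerivedCategoryFactors_hom_naturality _)) _ _
    ((Q.map_comp _ _).symm.trans ((congrArg Q.map (cx_aux adj b)).trans (Q.map_comp _ _)))

end adj

section cD

variable {A : Type u} [Category.{v} A] [Abelian A] [HasDerivedCategory.{w} A]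
  {B : Type u'} [Category.{v'} B] [Abelian B] [HasDerivedCategory.{w'} B]
  {A₂ : Type u''} [Category.{v''} A₂] [Abelian A₂] [HasDerivedCategory.{w''} A₂]
  {B₂ : Type u'''} [Category.{v'''} B₂] [Abelian B₂] [HasDerivedCategory.{w'''} B₂]
  {L : B ⥤ A} [L.Additive] [PreservesFiniteLimits L] [PreservesFiniteColimits L]
  {L₂ : B₂ ⥤ A₂} [L₂.Additive] [PreservesFiniteLimits L₂] [PreservesFiniteColimits L₂]
  {E : A ⥤ A₂} [E.Additive] [PreservesFiniteLimits E] [PreservesFiniteColimits E]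
  {E' : B ⥤ B₂} [E'.Additive] [PreservesFiniteLimits E'] [PreservesFiniteColimits E']

theorem cx_aux2 (c : E' ⋙ L₂ ⟶ L ⋙ E) (X : B) :
    (L₂.mapHomologicalComplex (.up ℤ)).map
        ((HomologicalComplex.singleMapHomologicalComplex E' (.up ℤ) 0).hom.app X) ≫
      (HomologicalComplex.singleMapHomologicalComplex L₂ (.up ℤ) 0).hom.app (E'.obj X) ≫
      (HomologicalComplex.single A₂ (.up ℤ) 0).map (c.app X) =
    (bcCx c).app (sg B X) ≫ (E.mapHomologicalComplex (.up ℤ)).map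
        ((HomologicalComplex.singleMapHomologicalComplex L (.up ℤ) 0).hom.app X) ≫
      (HomologicalComplex.singleMapHomologicalComplex E (.up ℤ) 0).hom.app (L.obj X) := by
  refine HomologicalComplex.to_single_hom_ext ?_
  have e1 := HomologicalComplex.singleMapHomologicalComplex_hom_app_self E' (ComplexShape.up ℤ) 0 X
  have e2 := HomologicalComplex.singleMapHomologicalComplex_hom_app_self L₂ (ComplexShape.up ℤ) 0 (E'.obj X)
  have e3 := HomologicalComplex.single_map_f_self (c := ComplexShape.up ℤ) (0 : ℤ) (c.app X)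
  have e4 := HomologicalComplex.singleMapHomologicalComplex_hom_app_self L (ComplexShape.up ℤ) 0 X
  have e5 := HomologicalComplex.singleMapHomologicalComplex_hom_app_self E (ComplexShape.up ℤ) 0 (L.obj X)
  have key : ∀ {X0 : B} (s : X0 ⟶ X) {Y0 : B₂} (t : Y0 ≅ E'.obj X) {Z0 : A₂} (m : Z0 ≅ L₂.obj (E'.obj X))
      {W0 : A₂} (r : W0 ≅ E.obj (L.obj X)) {V0 : A} (n : V0 ≅ L.obj X),
      L₂.map (E'.map s ≫ t.inv) ≫ (L₂.map t.hom ≫ m.inv) ≫ (m.hom ≫ c.app X ≫ r.inv) =
        c.app X0 ≫ E.map (L.map s ≫ n.inv) ≫ (E.map n.hom ≫ r.inv) := by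
    intro X0 s Y0 t Z0 m W0 r V0 n
    have h := c.naturality s
    dsimp at h
    have a1 : L₂.map (E'.map s ≫ t.inv) ≫ L₂.map t.hom = L₂.map (E'.map s) := by
      rw [← L₂.map_comp, Category.assoc, t.inv_hom_id, Category.comp_id]
    have a2 : E.map (L.map s ≫ n.inv) ≫ E.map n.hom = E.map (L.map s) := by
      rw [← E.map_comp, Category.assoc, n.inv_hom_id, Category.comp_id]
    rw [Category.assoc, Iso.inv_hom_id_assoc, reassoc_of% a1, reassoc_of% h, reassoc_of% a2]
  refine Eq.trans (congrArg₂ (fun s t => L₂.map s ≫ t) e1 (congrArg₂ (fun s t => s ≫ t) e2 e3)) ?_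
  refine (key (HomologicalComplex.singleObjXSelf (ComplexShape.up ℤ) 0 X).hom
    (HomologicalComplex.singleObjXSelf (ComplexShape.up ℤ) 0 (E'.obj X))
    (HomologicalComplex.singleObjXSelf (ComplexShape.up ℤ) 0 (L₂.obj (E'.obj X)))
    (HomologicalComplex.singleObjXSelf (ComplexShape.up ℤ) 0 (E.obj (L.obj X)))
    (HomologicalComplex.singleObjXSelf (ComplexShape.up ℤ) 0 (L.obj X))).trans ?_
  exact (congrArg₂ (fun s t => c.app _ ≫ E.map s ≫ t) e4 e5).symm

theorem chase2 {D₂ C C₂ : Type*} [Category* D₂] [Category* C] [Category* C₂]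
    (R : D₂ ⥤ C₂) (S : C ⥤ C₂) {x0 x1 x2 : D₂} (f : x0 ⟶ x1) (s : x1 ⟶ x2) {y1 y2 y3 y4 : C₂}
    (g1 : R.obj x1 ⟶ y1) (g2 : R.obj x2 ⟶ y2) (k : y1 ⟶ y2) (h1 : R.map s ≫ g2 = g1 ≫ k)
    (t : y2 ⟶ y3) (b : y3 ⟶ y4) {z1 : C₂} (c : y1 ⟶ z1) {z2 : C} {w1 : C} (i1 : z1 ⟶ S.obj w1)
    (i2 : w1 ⟶ z2) {w2 : C} (j : z2 ⟶ w1) (hj : i2 ≫ j = 𝟙 _) (l : w1 ⟶ w2) {v2 : C₂} (m2 : S.obj w2 ⟶ v2)
    (m3 : v2 ⟶ y4) (i1' : S.obj w1 ⟶ z1) (hi : i1 ≫ i1' = 𝟙 _) (l' : z1 ⟶ v2)
    (h2 : S.map l ≫ m2 = i1' ≫ l') (h3 : k ≫ t ≫ b = c ≫ l' ≫ m3) :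
    R.map (f ≫ s) ≫ (g2 ≫ t) ≫ b =
      (R.map f ≫ g1 ≫ c ≫ i1 ≫ S.map i2) ≫ S.map (j ≫ l) ≫ (m2 ≫ m3) := by
  simp only [Functor.map_comp, Category.assoc]
  rw [reassoc_of% h1, h3, ← S.map_comp_assoc i2 j, hj, S.map_id, Category.id_comp, reassoc_of% h2,
    reassoc_of% hi]

/-- `cD c` on objects in degree zero. -/
theorem cD_single (c : E' ⋙ L₂ ⟶ L ⋙ E) (X : B) :
    L₂.mapDerivedCategory.map ((E'.mapDerivedCategorySingleFunctor 0).hom.app X) ≫
      (L₂.mapDerivedCategorySingleFunctor 0).hom.app (E'.obj X) ≫ (singleFunctor A₂ 0).map (c.app X) =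
    (cD c).app ((singleFunctor B 0).obj X) ≫
      E.mapDerivedCategory.map ((L.mapDerivedCategorySingleFunctor 0).hom.app X) ≫
      (E.mapDerivedCategorySingleFunctor 0).hom.app (L.obj X) := by
  rw [mDSingle_hom E', mDSingle_hom L₂, mDSingle_hom L, mDSingle_hom E]
  have H1 := L₂.mapDerivedCategoryFactors_hom_naturality
    ((HomologicalComplex.singleMapHomologicalComplex E' (.up ℤ) 0).hom.app X)
  have H2 := E.mapDerivedCategoryFactors_hom_naturality
    ((HomologicalComplex.singleMapHomologicalComplex L (.up ℤ) 0).hom.app X)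
  have H3 : Q.map ((L₂.mapHomologicalComplex (.up ℤ)).map
        ((HomologicalComplex.singleMapHomologicalComplex E' (.up ℤ) 0).hom.app X)) ≫
      Q.map ((HomologicalComplex.singleMapHomologicalComplex L₂ (.up ℤ) 0).hom.app (E'.obj X)) ≫
      Q.map ((HomologicalComplex.single A₂ (.up ℤ) 0).map (c.app X)) =
    Q.map ((bcCx c).app (sg B X)) ≫ Q.map ((E.mapHomologicalComplex (.up ℤ)).map
        ((HomologicalComplex.singleMapHomologicalComplex L (.up ℤ) 0).hom.app X)) ≫
      Q.map ((HomologicalComplex.singleMapHomologicalComplex E (.up ℤ) 0).hom.app (L.obj X)) := by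
    rw [← Q.map_comp, ← Q.map_comp, ← Q.map_comp, ← Q.map_comp, cx_aux2 c X]
  have H4 : L.mapDerivedCategoryFactors.inv.app (sg B X) ≫ L.mapDerivedCategoryFactors.hom.app (sg B X) = 𝟙 _ :=
    Iso.inv_hom_id_app _ _
  have H5 : E.mapDerivedCategoryFactors.inv.app ((L.mapHomologicalComplex (.up ℤ)).obj (sg B X)) ≫
      E.mapDerivedCategoryFactors.hom.app ((L.mapHomologicalComplex (.up ℤ)).obj (sg B X)) = 𝟙 _ :=
    Iso.inv_hom_id_app _ _
  have H0 := cD_app c (sg B X)
  refine Eq.trans ?_ (congrArg (fun t => t ≫ _) H0.symm)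
  exact chase2 L₂.mapDerivedCategory E.mapDerivedCategory (E'.mapDerivedCategoryFactors.hom.app (sg B X))
    (Q.map ((HomologicalComplex.singleMapHomologicalComplex E' (.up ℤ) 0).hom.app X)) _ _ _ H1 _ _
    (Q.map ((bcCx c).app (sg B X))) _ _ _ H4 _ _ _ _ H5 _ H2 H3

end cD

end Groth.Agent.Etbc.H182.SingleTransp
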